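import Cfsg.Prelude.Def_CaseTheorems
import Cfsg.Agent.Lib.PGroups.MaximalClass
import Cfsg.Agent.Lib.TwoGroups.NormalAbelian
import Cfsg.Agent.Lib.Spectrum.FixityTwoSylow
import Cfsg.Agent.Lib.SL2.Dickson.Minimal
import Cfsg.Agent.Lib.ClassicalLinear.Card
import Cfsg.Agent.S0205
import Cfsg.Agent.S0483
import Cfsg.Agent.S4399

/-!
Common facts for the primitive groups with a point stabilizer containing a Klein four-group.
-/

set_option autoImplicit false
set_option linter.style.haveILetI false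
set_option linter.unusedVariables false

open Subgroup

namespace CfsgLib.SubdegreeThree

/-! ### The symmetric group of degree four -/

/-- The normal four-group of `S₄`. -/
def klein : Subgroup (Equiv.Perm (Fin 4)) where
  carrier := {x | x * x = 1 ∧ Equiv.Perm.sign x = 1}
  one_mem' := ⟨one_mul 1, map_one _⟩
  mul_mem' {a b} ha hb := by
    revert ha hb; revert a b
    show ∀ {a b : Equiv.Perm (Fin 4)}, (a * a = 1 ∧ Equiv.Perm.sign a = 1) →
      (b * b = 1 ∧ Equiv.Perm.sign b = 1) → a * b * (a * b) = 1 ∧ Equiv.Perm.sign (a * b) = 1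
    decide +kernel
  inv_mem' {a} ha := by
    have : a⁻¹ = a := inv_eq_of_mul_eq_one_left ha.1
    rwa [this]

theorem mem_klein {x : Equiv.Perm (Fin 4)} :
    x ∈ klein ↔ x * x = 1 ∧ Equiv.Perm.sign x = 1 := Iff.rfl

instance : DecidablePred (· ∈ klein) := fun _ => decidable_of_iff _ mem_klein.symm

theorem card_klein : Nat.card klein = 4 := by
  rw [Nat.card_eq_fintype_card]
  decide +kernel

theorem klein_normal : klein.Normal :=
  ⟨fun x hx g => mem_klein.2 ⟨by
    rw [show g * x * g⁻¹ * (g * x * g⁻¹) = g * (x * x) * g⁻¹ by group, hx.1, mul_one,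
      mul_inv_cancel], by simp [hx.2, Int.units_mul_self]⟩⟩

theorem klein_centralizer (x : Equiv.Perm (Fin 4)) (h : ∀ v ∈ klein, v * x = x * v) : x ∈ klein := by
  revert h x
  decide +kernel

theorem klein_transitive (u v : Equiv.Perm (Fin 4)) (hu : u ∈ klein) (hu1 : u ≠ 1)
    (hv : v ∈ klein) (hv1 : v ≠ 1) : ∃ z, z * u * z⁻¹ = v := by
  revert hu hu1 hv hv1 u v
  decide +kernel

theorem outer_pair (x y u : Equiv.Perm (Fin 4)) (hx2 : x * x = 1) (hx : x ∉ klein)
    (hy2 : y * y = 1) (hy : y ∉ klein) (hxy : x * y ∈ klein) (hu : u ∈ klein) (hu1 : u ≠ 1)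
    (hux : u * x = x * u) (huy : u * y = y * u) : y = x ∨ y = x * u := by
  have key : ∀ (x y : {x : Equiv.Perm (Fin 4) // x * x = 1 ∧ x ∉ klein})
      (u : {u : Equiv.Perm (Fin 4) // u ∈ klein ∧ u ≠ 1}),
      ¬ (x.1 * y.1 ∈ klein ∧ u.1 * x.1 = x.1 * u.1 ∧ u.1 * y.1 = y.1 * u.1) ∨
        y.1 = x.1 ∨ y.1 = x.1 * u.1 := by decide +kernel
  exact (key ⟨x, hx2, hx⟩ ⟨y, hy2, hy⟩ ⟨u, hu, hu1⟩).resolve_left (not_not_intro ⟨hxy, hux, huy⟩)

theorem eq_top_of_outer (K : Subgroup (Equiv.Perm (Fin 4))) [hK : K.Normal] {x : Equiv.Perm (Fin 4)}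
    (hx : x * x = 1) (hxk : x ∉ klein) (hxK : x ∈ K) : K = ⊤ := by
  have key : ∀ x : Equiv.Perm (Fin 4), x * x = 1 → x ∉ klein → ∀ i j : Fin 4, i ≠ j →
      ∃ z, z * x * z⁻¹ = Equiv.swap i j := by decide +kernel
  refine top_unique fun y _ => ?_
  induction y using Equiv.Perm.swap_induction_on with
  | one => exact one_mem _
  | swap_mul f i j hij hf =>
    obtain ⟨z, hz⟩ := key x hx hxk i j hij
    exact mul_mem (hz ▸ hK.conj_mem x hxK z) (hf trivial)

theorem card_perm_four : Nat.card (Equiv.Perm (Fin 4)) = 24 := by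
  rw [Nat.card_perm, Nat.card_fin]
  rfl

theorem klein_exponent {x : Equiv.Perm (Fin 4)} (hx : x ∈ klein) : x * x = 1 := hx.1

/-! ### General facts -/

variable {G : Type*} [Group G]

theorem mem_conjImage {H : Subgroup G} {g x : G} :
    x ∈ H.map (MulAut.conj g).toMonoidHom ↔ g⁻¹ * x * g ∈ H := by
  constructor
  · rintro ⟨y, hy, rfl⟩
    simpa [mul_assoc] using hy
  · intro h
    exact ⟨g⁻¹ * x * g, h, by simp [mul_assoc]⟩

theorem isKleinFour_of_card (V : Subgroup G) (h4 : Nat.card V = 4) (h2 : ∀ v ∈ V, v * v = 1) :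
    IsKleinFour V := by
  haveI : Finite V := Nat.finite_of_card_ne_zero (by omega)
  refine ⟨h4, ?_⟩
  have hd : Monoid.exponent V ∣ 2 := Monoid.exponent_dvd_of_forall_pow_eq_one
    fun v => Subtype.ext (by rw [pow_two]; exact h2 v v.2)
  refine ((Nat.dvd_prime Nat.prime_two).1 hd).resolve_left fun h => ?_
  haveI : Subsingleton V := Monoid.exp_eq_one_iff.1 h
  rw [Nat.card_eq_one_iff_unique.2 ⟨inferInstance, ⟨1⟩⟩] at h4
  omega

theorem isPGroup_two_of_card {K : Subgroup G} {n : ℕ} (h : Nat.card K = 2 ^ n) : IsPGroup 2 K :=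
  haveI : Finite K := Nat.finite_of_card_ne_zero (by rw [h]; positivity)
  IsPGroup.of_card h

/-- A subgroup maximal in `G` is the normalizer of each nontrivial subgroup normal in it. -/
theorem normalizer_eq_of_le {H : Subgroup G} (hmax : IsCoatom H) (hcore : H.normalCore = ⊥)
    {K : Subgroup G} (hKH : K ≤ H) (hK : K ≠ ⊥) (hHK : H ≤ normalizer (K : Set G)) :
    normalizer (K : Set G) = H := by
  refine ((eq_or_lt_of_le hHK).resolve_right fun h => hK ?_).symm
  haveI := normalizer_eq_top_iff.1 (hmax.2 _ h)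
  exact le_bot_iff.1 (hcore ▸ normal_le_normalCore.2 hKH)

theorem sup_eq_top_of_normal {H : Subgroup G} (hmax : IsCoatom H) (hcore : H.normalCore = ⊥)
    {N : Subgroup G} [N.Normal] (hN : N ≠ ⊥) : N ⊔ H = ⊤ :=
  hmax.2 _ (lt_of_le_of_ne le_sup_right fun h => hN
    (le_bot_iff.1 (hcore ▸ normal_le_normalCore.2 (sup_eq_right.1 h.symm))))

/-- If `H` is soluble and `G` is not, then no nontrivial normal subgroup is soluble. -/
theorem not_isSolvable_of_normal {H : Subgroup G} (hns : ¬ Group.IsSolvable G)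
    (hmax : IsCoatom H) (hcore : H.normalCore = ⊥) (hH : Group.IsSolvable H)
    {N : Subgroup G} [N.Normal] (hN : N ≠ ⊥) : ¬ Group.IsSolvable N := by
  intro h
  haveI := hH
  have hsurj : Function.Surjective ((QuotientGroup.mk' N).comp H.subtype) := by
    intro q
    obtain ⟨x, rfl⟩ := QuotientGroup.mk'_surjective N q
    have : x ∈ N ⊔ H := by rw [sup_eq_top_of_normal hmax hcore hN]; trivial
    obtain ⟨a, ha, b, hb, rfl⟩ := (Subgroup.mem_sup_of_normal_left).1 this
    refine ⟨⟨b, hb⟩, ?_⟩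
    simp [(QuotientGroup.eq_one_iff a).2 ha]
  exact hns ((Group.isSolvable_iff_subgroup_quotient N).2
    ⟨h, Group.isSolvable_of_surjective hsurj⟩)

theorem two_dvd_card_of_not_solvable [Finite G] {N : Subgroup G} (h : ¬ Group.IsSolvable N) :
    2 ∣ Nat.card N := by
  by_contra h2
  exact h (Cfsg.Agent.S0205.result (Nat.odd_iff.2 (Nat.two_dvd_ne_zero.1 h2)))

/-- A normal subgroup of even order meets the centre of every Sylow 2-subgroup. -/
theorem exists_central_mem [Finite G] (N : Subgroup G) [N.Normal] (h2 : 2 ∣ Nat.card N)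
    (P : Sylow 2 G) :
    ∃ c ∈ N, c ≠ 1 ∧ c ∈ (P : Subgroup G) ∧ ∀ x ∈ (P : Subgroup G), x * c = c * x := by
  haveI : Fact (Nat.Prime 2) := ⟨Nat.prime_two⟩
  obtain ⟨t, ht⟩ := exists_prime_orderOf_dvd_card' 2 h2
  have htP : IsPGroup 2 (zpowers (t : G)) := isPGroup_two_of_card (n := 1)
    (by rw [Nat.card_zpowers, orderOf_coe, ht]; rfl)
  obtain ⟨Q, hQ⟩ := htP.exists_le_sylow
  obtain ⟨a, ha⟩ := MulAction.exists_smul_eq G Q P
  have hmem : a * (t : G) * a⁻¹ ∈ (P : Subgroup G) := by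
    rw [← ha, Sylow.coe_subgroup_smul]
    exact ⟨t, hQ (mem_zpowers _), by simp⟩
  have hne : N.subgroupOf (P : Subgroup G) ≠ ⊥ := by
    intro h
    have : (⟨_, hmem⟩ : (P : Subgroup G)) = 1 :=
      (Subgroup.eq_bot_iff_forall _).1 h _
        (mem_subgroupOf.2 (Normal.conj_mem inferInstance (t : G) t.2 a))
    have h1 : a * (t : G) * a⁻¹ = 1 := congrArg Subtype.val this
    have : t = 1 := Subtype.ext (by simpa using h1)
    rw [this, orderOf_one] at ht
    omega
  obtain ⟨c, hc, hc1, hcz⟩ := CfsgLib.TwoGroups.exists_mem_center_of_normal P.isPGroup' hne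
  exact ⟨c, mem_subgroupOf.1 hc, fun h => hc1 (Subtype.ext h), c.2,
    fun x hx => congrArg Subtype.val (mem_center_iff.1 hcz ⟨x, hx⟩)⟩

/-- A subgroup of a finite group that is stable under conjugation is normalised. -/
theorem mem_normalizer_of_forall [Finite G] {V : Subgroup G} {n : G}
    (h : ∀ v ∈ V, n * v * n⁻¹ ∈ V) : n ∈ normalizer (V : Set G) := by
  have hle : V.map (MulAut.conj n).toMonoidHom ≤ V := by
    rintro _ ⟨v, hv, rfl⟩; simpa using h v hv
  have heq : V.map (MulAut.conj n).toMonoidHom = V := Subgroup.eq_of_le_of_card_ge hle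
    (by rw [Subgroup.card_map_of_injective (MulAut.conj n).injective])
  refine mem_normalizer_iff.2 fun x => ⟨h x, fun hx => ?_⟩
  rw [← heq] at hx
  rw [mem_conjImage] at hx
  simpa [mul_assoc] using hx

section Three

variable [Finite G] {H D : Subgroup G}

set_option linter.unusedSectionVars false

theorem card_of_rel_three (hDH : D ≤ H) (hrel : D.relIndex H = 3) :
    Nat.card D * 3 = Nat.card H := by
  rw [← Nat.card_congr (Subgroup.subgroupOfEquivOfLe hDH).toEquiv, ← hrel, Subgroup.relIndex,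
    Subgroup.card_mul_index]

/-- A 2-subgroup of `H` normalised by a 2-subgroup of index three lies in the latter. -/
theorem le_of_rel_three (hDH : D ≤ H) (hrel : D.relIndex H = 3) (hD : IsPGroup 2 D)
    {Q : Subgroup G} (hQH : Q ≤ H) (hQ : IsPGroup 2 Q) (hDQ : D ≤ normalizer (Q : Set G)) :
    Q ≤ D := by
  haveI : Fact (Nat.Prime 2) := ⟨Nat.prime_two⟩
  obtain ⟨a, ha⟩ := IsPGroup.iff_card.1 hD
  obtain ⟨b, hb⟩ := IsPGroup.iff_card.1 (hD.to_sup_of_normal_right' hQ hDQ)
  have hH := card_of_rel_three hDH hrel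
  have h2 : Nat.card ↥(D ⊔ Q) ∣ Nat.card H := Subgroup.card_dvd_of_le (sup_le hDH hQH)
  rw [← hH, hb, ha] at h2
  have h3 : 2 ^ b ∣ 2 ^ a :=
    (Nat.Coprime.pow_left b (by norm_num : Nat.Coprime 2 3)).dvd_of_dvd_mul_right h2
  have heq : D = D ⊔ Q := Subgroup.eq_of_le_of_card_ge le_sup_left
    (by rw [ha, hb]; exact Nat.le_of_dvd (by positivity) h3)
  rw [heq]; exact le_sup_right

/-- Two 2-subgroups of index three in `H` are conjugate in `H`. -/
theorem exists_conj_of_rel_three {D' : Subgroup G} (hDH : D ≤ H) (hrel : D.relIndex H = 3)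
    (hD : IsPGroup 2 D) (hD'H : D' ≤ H) (hc : Nat.card D' = Nat.card D) :
    ∃ h ∈ H, ∀ x, x ∈ D' ↔ h * x * h⁻¹ ∈ D := by
  haveI : Fact (Nat.Prime 2) := ⟨Nat.prime_two⟩
  obtain ⟨a, ha⟩ := IsPGroup.iff_card.1 hD
  have hrel' : D'.relIndex H = 3 := by
    have h1 := (D'.subgroupOf H).card_mul_index
    rw [Nat.card_congr (Subgroup.subgroupOfEquivOfLe hD'H).toEquiv, hc,
      ← card_of_rel_three hDH hrel] at h1
    exact Nat.eq_of_mul_eq_mul_left Nat.card_pos h1
  have hp1 : IsPGroup 2 (D.subgroupOf H) := hD.comap_subtype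
  have hp2 : IsPGroup 2 (D'.subgroupOf H) := (isPGroup_two_of_card (hc.trans ha)).comap_subtype
  let S : Sylow 2 H := hp1.toSylow (by rw [← Subgroup.relIndex, hrel]; norm_num)
  let S' : Sylow 2 H := hp2.toSylow (by rw [← Subgroup.relIndex, hrel']; norm_num)
  obtain ⟨h, hh⟩ := MulAction.exists_smul_eq H S' S
  refine ⟨h, h.2, fun x => ?_⟩
  have hS : D.subgroupOf H = (D'.subgroupOf H).map (MulAut.conj h).toMonoidHom := by
    show ((S : Subgroup H)) = (S' : Subgroup H).map (MulAut.conj h).toMonoidHom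
    rw [← hh, Sylow.coe_subgroup_smul]
    rfl
  constructor
  · intro hx
    have : MulAut.conj h ⟨x, hD'H hx⟩ ∈ D.subgroupOf H := by
      rw [hS]; exact ⟨_, mem_subgroupOf.2 hx, rfl⟩
    exact mem_subgroupOf.1 this
  · intro hx
    have hxH : x ∈ H := by
      have := mul_mem (mul_mem (inv_mem h.2) (hDH hx)) h.2
      simpa [mul_assoc] using this
    have : MulAut.conj h ⟨x, hxH⟩ ∈ D.subgroupOf H := mem_subgroupOf.2 hx
    rw [hS] at this
    obtain ⟨y, hy, hyx⟩ := this
    have := (MulAut.conj h).injective hyx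
    subst this
    exact mem_subgroupOf.1 hy

/-- A subgroup of index three that is not normal in `H` is self-normalising there. -/
theorem mem_of_normalizer {x : G} (hDH : D ≤ H) (hrel : D.relIndex H = 3)
    (hD : ¬ H ≤ normalizer (D : Set G)) (hx : x ∈ H) (hxD : x ∈ normalizer (D : Set G)) :
    x ∈ D := by
  set K := normalizer (D : Set G) ⊓ H
  have hDK : D ≤ K := le_inf Subgroup.le_normalizer hDH
  have hm := Subgroup.relIndex_mul_relIndex D K H hDK inf_le_right
  rw [hrel] at hm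
  rcases (Nat.dvd_prime Nat.prime_three).1 (Dvd.intro _ hm) with h | h
  · exact (Subgroup.relIndex_eq_one.1 h) ⟨hxD, hx⟩
  · exfalso
    rw [h] at hm
    have h1 : K.relIndex H = 1 := by omega
    exact hD fun y hy => ((Subgroup.relIndex_eq_one.1 h1) hy).1

end Three

/-- An element outside a 2-subgroup normalising it with square inside gives a bigger Sylow group. -/
theorem exists_sylow_ge [Finite G] {D : Subgroup G} (hD : IsPGroup 2 D) {n : G}
    (hn : n ∈ normalizer (D : Set G)) (hnD : n ∉ D) (hn2 : n * n ∈ D) :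
    ∃ P : Sylow 2 G, D ≤ P ∧ n ∈ (P : Subgroup G) ∧ 2 * Nat.card D ∣ Nat.card (P : Subgroup G) := by
  haveI : Fact (Nat.Prime 2) := ⟨Nat.prime_two⟩
  obtain ⟨k, hk⟩ := hD ⟨n * n, hn2⟩
  have hn' : n ^ 2 ^ (k + 1) = 1 := by
    rw [pow_succ', pow_mul, pow_two]
    exact congrArg Subtype.val hk
  obtain ⟨j, -, hj⟩ := (Nat.dvd_prime_pow Nat.prime_two).1 (orderOf_dvd_of_pow_eq_one hn')
  have hp : IsPGroup 2 (zpowers n) := isPGroup_two_of_card (by rw [Nat.card_zpowers, hj])
  have hsup : IsPGroup 2 ↥(zpowers n ⊔ D) :=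
    hp.to_sup_of_normal_right' hD (zpowers_le.2 hn)
  obtain ⟨P, hP⟩ := hsup.exists_le_sylow
  refine ⟨P, le_sup_right.trans hP, hP (le_sup_left (a := zpowers n) (mem_zpowers n)), ?_⟩
  obtain ⟨a, ha⟩ := IsPGroup.iff_card.1 hD
  obtain ⟨b, hb⟩ := IsPGroup.iff_card.1 P.isPGroup'
  have hlt : Nat.card D < Nat.card (P : Subgroup G) := by
    refine lt_of_le_of_ne (Subgroup.card_le_of_le (le_sup_right.trans hP)) fun h => hnD ?_
    rw [Subgroup.eq_of_le_of_card_ge (le_sup_right.trans hP) h.ge]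
    exact hP (le_sup_left (a := zpowers n) (mem_zpowers n))
  rw [ha, hb] at hlt ⊢
  rw [← pow_succ']
  exact pow_dvd_pow 2 ((Nat.pow_lt_pow_iff_right (by norm_num)).1 hlt)

/-- A 2-group of order at least 16 with a self-centralising four-group is dihedral or semidihedral. -/
theorem maximal_class_type {P : Type*} [Group P] [Finite P] (hP : IsPGroup 2 P)
    (h16 : 16 ≤ Nat.card P) (A : Subgroup P) (hA : IsKleinFour A)
    (hC : centralizer (A : Set P) = A) :
    (∃ k : ℕ, Nonempty (P ≃* DihedralGroup (2 ^ (k + 2)))) ∨ Cfsg.IsQuasiDihedral P := by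
  haveI : Fact (Nat.Prime 2) := ⟨Nat.prime_two⟩
  obtain ⟨n, hn⟩ := IsPGroup.iff_card.1 hP
  obtain ⟨m, rfl⟩ : ∃ m, n = m + 3 := by
    refine ⟨n - 3, ?_⟩
    by_contra h
    have : 2 ^ n ≤ 2 ^ 2 := Nat.pow_le_pow_right (by norm_num) (by omega)
    rw [hn] at h16
    omega
  have hA4 : Nat.card A = 2 ^ 2 := hA.card_four
  have hcl := CfsgLib.PGroups.class_of_self_centralizing_sq (m + 3) hn A hA4 hC
  have hcc := CfsgLib.PGroups.card_commutator_of_maximal_class (by omega) hn hcl
  haveI hK := CfsgLib.PGroups.isKleinFour_abelianization hn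
    (by rw [hcc]; congr 1)
  rcases Cfsg.Agent.S4399.result hP hK.card_four
    (fun x => by rw [pow_two]; exact IsKleinFour.mul_self (G := P ⧸ commutator P) x) with
    h | ⟨k, ⟨e⟩⟩ | ⟨k, hc, a, b, ha, hb, hab⟩ | ⟨k, ⟨e⟩⟩
  · omega
  · exact Or.inl ⟨k, ⟨e⟩⟩
  · exact Or.inr ⟨k + 3, by omega, hc, a, b, ha, hb, hab⟩
  · exfalso
    classical
    haveI := hA
    haveI : NeZero (2 ^ (k + 1)) := ⟨by positivity⟩
    haveI := Fintype.ofFinite A
    have h4 : Fintype.card A = 4 := by rw [← Nat.card_eq_fintype_card, hA.card_four]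
    obtain ⟨u, v, hu, hv, huv⟩ : ∃ u v : A, u ≠ 1 ∧ v ≠ 1 ∧ u ≠ v := by
      obtain ⟨u, hu⟩ := Fintype.exists_ne_of_one_lt_card (by omega) (1 : A)
      by_contra! h
      have hsub : Finset.univ ⊆ (insert 1 {u} : Finset A) := fun x _ => by
        by_cases hx : x = 1
        · simp [hx]
        · simp [← h u x hu hx]
      have := (Finset.card_le_card hsub).trans Finset.card_le_two
      rw [Finset.card_univ, h4] at this
      omega
    have inv : ∀ w : A, w ≠ 1 → e w = .a ((2 ^ (k + 1) : ℕ) : ZMod (2 * 2 ^ (k + 1))) := by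
      intro w hw
      refine CfsgLib.Spectrum.quaternion_involution_eq _ ?_ ?_
      · rw [← map_mul, ← Subgroup.coe_mul, IsKleinFour.mul_self, Subgroup.coe_one, map_one]
      · exact fun h => hw (Subtype.ext (e.injective (h.trans (map_one e).symm)))
    exact huv (Subtype.ext (e.injective ((inv u hu).trans (inv v hv).symm)))

/-- A simple group with dihedral Sylow 2-subgroups of order at least 16 is `L₂(q)`, `q ≡ ±1 (16)`. -/
theorem psl_two_of_dihedral [Finite G] [IsSimpleGroup G] (hns : ¬ Group.IsSolvable G)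
    (P : Sylow 2 G) (h16 : 16 ∣ Nat.card (P : Subgroup G)) (k : ℕ)
    (hP : Nonempty ((P : Subgroup G) ≃* DihedralGroup (2 ^ (k + 2)))) :
    ∃ (F : Type) (_ : Field F) (_ : Fintype F),
      (Fintype.card F % 16 = 1 ∨ Fintype.card F % 16 = 15) ∧
        Nonempty (G ≃* Matrix.ProjectiveSpecialLinearGroup (Fin 2) F) := by
  haveI : Group.IsPerfect G := ⟨by
    rcases Subgroup.Normal.eq_bot_or_eq_top (H := commutator G) inferInstance with h | h
    · exfalso
      refine hns (Group.isSolvable_of_comm fun a b => ?_)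
      have := commutator_mem_commutator (mem_top a) (mem_top b)
      rw [← commutator_def, h, mem_bot] at this
      exact commutatorElement_eq_one_iff_mul_comm.1 this
    · exact h⟩
  have hG16 : 16 ∣ Nat.card G := h16.trans (Subgroup.card_subgroup_dvd_card _)
  have hO : Cfsg.oddCore G = ⊥ := by
    refine le_bot_iff.1 (sSup_le fun N ⟨hN, hc⟩ => ?_)
    rcases Subgroup.Normal.eq_bot_or_eq_top hN with h | h
    · exact h.le
    · exfalso
      rw [h, Subgroup.card_top] at hc
      have := Nat.eq_one_of_dvd_coprimes hc ((by norm_num : 2 ∣ 16).trans hG16) dvd_rfl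
      omega
  let q : G ⧸ Cfsg.oddCore G ≃* G :=
    (QuotientGroup.quotientMulEquivOfEq hO).trans QuotientGroup.quotientBot
  rcases Cfsg.Agent.S0483.result P (2 ^ (k + 2))
    (le_trans (by norm_num) (Nat.pow_le_pow_right (by norm_num) (show 1 ≤ k + 2 by omega))) hP with
    ⟨F, hF, hFt, hodd, -, ⟨e⟩⟩ | he
  · refine ⟨F, hF, hFt, ?_, ⟨q.symm.trans e⟩⟩
    have h2 := CfsgLib.ClassicalLinear.card_PSL_two_of_odd (F := F) rfl hodd
    rw [← Nat.card_congr (q.symm.trans e).toEquiv] at h2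
    have h32 : 32 ∣ Fintype.card F * (Fintype.card F ^ 2 - 1) := by
      rw [← h2]; exact Nat.mul_dvd_mul_left 2 hG16
    have hcop : Nat.Coprime 32 (Fintype.card F) := by
      rw [show 32 = 2 ^ 5 by norm_num]
      exact Nat.Coprime.pow_left 5 (Nat.coprime_two_left.2 hodd)
    have h := hcop.dvd_of_dvd_mul_left h32
    obtain ⟨a, r, hr, hq⟩ : ∃ a r, r < 16 ∧ Fintype.card F = 16 * a + r :=
      ⟨_, _, Nat.mod_lt _ (by norm_num), (Nat.div_add_mod _ 16).symm⟩
    rw [hq] at h ⊢
    obtain ⟨c, hc⟩ := h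
    have hsq : (16 * a + r) ^ 2 = 32 * (8 * a * a + a * r) + r * r := by ring
    rw [hsq] at hc
    rw [Nat.odd_iff, hq] at hodd
    interval_cases r <;> omega
  · exfalso
    obtain ⟨e⟩ := he
    have : 16 ∣ Nat.card (alternatingGroup (Fin 7)) :=
      Nat.card_congr (q.symm.trans e).toEquiv ▸ hG16
    rw [nat_card_alternatingGroup, Nat.card_fin] at this
    norm_num [Nat.factorial] at this

end CfsgLib.SubdegreeThree
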