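import Cfsg.Agent.Lib.SubdegreeThree.EightSylow
import Cfsg.Agent.Lib.InvChar.Transfer

/-!
A primitive group with a point stabilizer `S₄ × Z₂` and a suborbit of length three has a simple
normal subgroup of index two with dihedral or semidihedral Sylow 2-subgroups.
-/

set_option autoImplicit false
set_option linter.style.haveILetI false
set_option linter.unusedVariables false
set_option linter.unusedSectionVars false

open Subgroup

namespace CfsgLib.SubdegreeThree

variable {G : Type*} [Group G] [Finite G]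

theorem ofAdd_one_sq : Multiplicative.ofAdd (1 : ZMod 2) * Multiplicative.ofAdd 1 = 1 := by decide

namespace Swap

variable {H : Subgroup G} (S : Swap H)

theorem V_conj_w {a : G} (ha : a ∈ S.V) (ha1 : a ≠ 1) : ∃ k ∈ H, k * S.w * k⁻¹ = a := by
  obtain ⟨σ, hσ, rfl⟩ := S.mem_V.1 ha
  obtain ⟨τ, hτ⟩ := klein_transitive S.sw σ S.sw_mem S.sw_ne hσ
    (fun h => ha1 (by rw [h, Prod.mk_one_one, map_one]))
  refine ⟨S.ι (τ, 1), S.ιH _, ?_⟩
  rw [w, ← map_inv, ← map_mul, ← map_mul]
  exact congrArg S.ι (Prod.ext hτ (by simp))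

/-- A Sylow 2-subgroup of order 32 lying over `D`. -/
theorem exists_sylow_R : ∃ P : Sylow 2 G, (P : Subgroup G) = S.R := by
  haveI : Fact (Nat.Prime 2) := ⟨Nat.prime_two⟩
  have hR : IsPGroup 2 S.R := isPGroup_two_of_card (n := 5) S.card_R
  refine ⟨hR.toSylow fun h => S.not_dvd_64 ?_, rfl⟩
  rw [← S.R.card_mul_index, S.card_R, show 64 = 32 * 2 by norm_num]
  exact Nat.mul_dvd_mul_left 32 h

theorem exists_index_two : ∃ M : Subgroup G, M.Normal ∧ M.index = 2 ∧ S.z ∉ M := by
  obtain ⟨c, hcR, hcD, hc2, hcB, hclean⟩ := S.exists_clean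
  obtain ⟨P, hP⟩ := S.exists_sylow_R
  set S1 : Subgroup G := adjoin S.B c (mem_normalizer_of_forall hcB) hc2
  have hS1 : Nat.card S1 = 16 := by
    rw [card_adjoin _ _ _ _ (fun h => hcD (S.B_le h)), S.card_B]
  have hS1R : S1 ≤ S.R := by
    intro x hx
    rcases hx with hx | hx
    · exact S.D_le_R (S.B_le hx)
    · simpa using mul_mem (inv_mem hcR) (S.D_le_R (S.B_le hx))
  refine CfsgLib.InvChar.exists_index_two_not_mem P S1 ?_ 1 le_rfl (fun y _ hy1 => ?_) S.z
    (hP ▸ S.D_le_R S.z_mem_D) (by rw [S.orderOf_z]; norm_num) fun g hg => ?_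
  · have h := (S1.subgroupOf S.R).card_mul_index
    rw [Nat.card_congr (Subgroup.subgroupOfEquivOfLe hS1R).toEquiv, hS1, S.card_R] at h
    rw [hP, Subgroup.relIndex]
    omega
  · have hne : orderOf y ≠ 1 := fun h => hy1 (by rw [orderOf_eq_one_iff.1 h]; exact one_mem _)
    have := orderOf_pos y
    norm_num
    omega
  · have h2 : g * S.z * g⁻¹ * (g * S.z * g⁻¹) = 1 := by
      rw [show g * S.z * g⁻¹ * (g * S.z * g⁻¹) = g * (S.z * S.z) * g⁻¹ by group, S.z_mul_self,
        mul_one, mul_inv_cancel]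
    rcases hg with hg | hg
    · obtain ⟨k, hk⟩ : ∃ k : G, k * S.w * k⁻¹ = g * S.z * g⁻¹ := by
        have hne : g * S.z * g⁻¹ ≠ 1 := fun h => S.z_ne_one (conj_eq_one_iff.1 h)
        rcases S.B_involution hg h2 with h | h | h
        · obtain ⟨k, -, hk⟩ := S.V_conj_w h hne
          exact ⟨k, hk⟩
        · obtain ⟨k, -, hk⟩ := S.V_conj_w S.v_mem S.v_ne_one
          exact ⟨S.n * k, by rw [h, v', ← hk]; group⟩
        · obtain ⟨k, -, hk⟩ := S.V_conj_w (mul_mem S.v_mem S.w_mem_V)
            (fun h => S.v_ne_w ((mul_eq_one_iff_eq_inv.1 h).trans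
              (inv_eq_of_mul_eq_one_left S.w_mul_self)))
          refine ⟨S.n * k, ?_⟩
          have e2 : S.v' * S.w = S.n * (S.v * S.w) * S.n⁻¹ := by
            rw [show S.n * (S.v * S.w) * S.n⁻¹ = S.n * S.v * S.n⁻¹ * (S.n * S.w * S.n⁻¹) by group,
              S.n_w]
            rfl
          rw [h, e2, ← hk]; group
      refine S.not_conj_w (k⁻¹ * g) ?_
      calc k⁻¹ * g * S.z * (k⁻¹ * g)⁻¹ = k⁻¹ * (g * S.z * g⁻¹) * k := by group
        _ = k⁻¹ * (k * S.w * k⁻¹) * k := by rw [hk]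
        _ = S.w := by group
    · exact hclean _ hg h2

end Swap

/-- Structure in the case of point stabilizer `S₄ × Z₂`. -/
theorem eight_structure (hns : ¬ Group.IsSolvable G) (H : Subgroup G) (hmax : IsCoatom H)
    (hcore : H.normalCore = ⊥) (g : G) (hgH : g ∉ H)
    (hrel : (H ⊓ H.map (MulAut.conj g).toMonoidHom).relIndex H = 3)
    (hH : Nonempty (H ≃* Equiv.Perm (Fin 4) × Multiplicative (ZMod 2))) :
    ∃ M : Subgroup G, M.Normal ∧ M.index = 2 ∧ centralizer (M : Set G) = ⊥ ∧ IsSimpleGroup M ∧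
      ¬ Group.IsSolvable M ∧ ∃ z : G, z ∉ M ∧ z * z = 1 ∧
        ∃ (V : Subgroup M) (P : Sylow 2 M), IsKleinFour V ∧ centralizer (V : Set M) = V ∧
          Nat.card (normalizer (V : Set M)) = 24 ∧ (∀ v ∈ V, z * (v : G) * z⁻¹ = v) ∧
          Nat.card {x : M // z * (x : G) * z⁻¹ = x} = 24 ∧
          16 ∣ Nat.card (P : Subgroup M) ∧
          ((∃ k : ℕ, Nonempty ((P : Subgroup M) ≃* DihedralGroup (2 ^ (k + 2)))) ∨
            Cfsg.IsQuasiDihedral (P : Subgroup M)) := by
  classical
  haveI : Fact (Nat.Prime 2) := ⟨Nat.prime_two⟩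
  obtain ⟨e⟩ := hH
  set H' : Subgroup G := H.map (MulAut.conj g).toMonoidHom with hH'def
  have hsolH : Group.IsSolvable H := by
    haveI := CfsgLib.SL2.Dickson.isSolvable_perm_four
    exact Group.isSolvable_of_isSolvable_injective (f := e.toMonoidHom) e.injective
  have hH48 : Nat.card H = 48 := by
    rw [Nat.card_congr e.toEquiv, Nat.card_prod, card_perm_four]
    simp
  have hD16 : Nat.card ↥(H ⊓ H') = 16 := by
    have := card_of_rel_three (inf_le_left : H ⊓ H' ≤ H) hrel
    omega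
  have hDp : IsPGroup 2 ↥(H ⊓ H') := isPGroup_two_of_card (n := 4) hD16
  have hgD : (H ⊓ H').map (MulAut.conj g⁻¹).toMonoidHom ≤ H := by
    rintro _ ⟨d, hd, rfl⟩
    simpa [hH'def, mem_conjImage] using (mem_conjImage.1 hd.2)
  obtain ⟨h, hh, hconj⟩ := exists_conj_of_rel_three inf_le_left hrel hDp hgD
    (card_map_of_injective (MulAut.conj g⁻¹).injective)
  have hnH : h * g⁻¹ ∉ H := fun hn => hgH (by simpa using mul_mem (inv_mem hn) hh)
  have hnD : h * g⁻¹ ∈ normalizer ((H ⊓ H' : Subgroup G) : Set G) := mem_normalizer_iff.2 fun y => by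
    have h1 := hconj (g⁻¹ * y * g)
    rw [mem_conjImage, inv_inv, show g * (g⁻¹ * y * g) * g⁻¹ = y by group,
      show h * (g⁻¹ * y * g) * h⁻¹ = h * g⁻¹ * y * (h * g⁻¹)⁻¹ by group] at h1
    exact h1
  let S : Swap H :=
    { ι := H.subtype.comp e.symm.toMonoidHom
      inj := H.subtype_injective.comp e.symm.injective
      range := by
        ext x
        exact ⟨fun ⟨p, hp⟩ => hp ▸ (e.symm p).2, fun hx => ⟨e ⟨x, hx⟩, by simp⟩⟩
      D := H ⊓ H'
      DH := inf_le_left
      rel := hrel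
      n := h * g⁻¹
      nD := hnD
      nH := hnH
      hmax := hmax
      hcore := hcore }
  clear_value S
  obtain ⟨P0, hP0⟩ := S.exists_sylow_R
  obtain ⟨M, hMn, hMi, hzM⟩ := S.exists_index_two
  haveI := hMn
  have hxor : ∀ {a b : G}, a * b ∈ M ↔ (a ∈ M ↔ b ∈ M) := fun {a b} =>
    mul_mem_iff_of_index_two hMi
  have hsame : ∀ a k : G, (k * a * k⁻¹ ∈ M ↔ a ∈ M) := fun a k => (hMn.mem_comm_iff).trans
    (by rw [← mul_assoc, inv_mul_cancel, one_mul])
  have hVM : S.V ≤ M := by
    have hw : S.w ∈ M := by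
      by_contra hw
      have key : ∀ a ∈ S.V, a ≠ 1 → a ∉ M := fun a ha ha1 h => by
        obtain ⟨k, -, hk⟩ := S.V_conj_w ha ha1
        exact hw ((hsame S.w k).1 (hk ▸ h))
      have h1 : S.v * S.w ≠ 1 := fun h => S.v_ne_w ((mul_eq_one_iff_eq_inv.1 h).trans
        (inv_eq_of_mul_eq_one_left S.w_mul_self))
      exact key _ (mul_mem S.v_mem S.w_mem_V) h1
        (hxor.2 (iff_of_false (key _ S.v_mem S.v_ne_one) hw))
    intro a ha
    by_cases ha1 : a = 1
    · exact ha1 ▸ one_mem _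
    obtain ⟨k, -, hk⟩ := S.V_conj_w ha ha1
    exact hk ▸ (hsame S.w k).2 hw
  have hv'M : S.v' ∈ M := (hsame S.v S.n).2 (hVM S.v_mem)
  have hBM : S.B ≤ M := by
    intro x hx
    rcases S.B_decomp hx with h | ⟨a, ha, rfl⟩
    · exact hVM h
    · exact mul_mem (hVM ha) hv'M
  have hDM : ∀ x ∈ S.D, x ∈ M → x ∈ S.B := fun x hx hxM => by
    refine (S.D_split hx).resolve_right fun h => hzM ?_
    simpa using mul_mem (hBM h) (inv_mem hxM)
  have hzH : S.z ∈ H := S.A_le S.z_mem_A
  -- normal subgroups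
  have hwN : ∀ N : Subgroup G, N.Normal → N ≠ ⊥ → S.w ∈ N := by
    intro N hNn hN
    haveI := hNn
    obtain ⟨c, hcN, hc1, hcP, hcc⟩ := exists_central_mem N
      (two_dvd_card_of_not_solvable (not_isSolvable_of_normal hns hmax hcore hsolH hN)) P0
    rw [hP0] at hcP hcc
    have hcA : c ∈ S.A := S.mem_A_of_centralizes fun v hv => hcc v (S.D_le_R (S.V_le_D hv))
    have hn : S.n * c * S.n⁻¹ = c := by
      rw [hcc _ (self_mem_adjoin _ _ _ _), mul_inv_cancel_right]
    rcases S.central_D (S.A_le_D hcA) (fun d hd => hcc d (S.D_le_R hd)) with h | h | h | h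
    · exact absurd h hc1
    · exact h ▸ hcN
    · subst h
      rw [S.n_z] at hn
      exact absurd (mul_eq_left.1 hn) S.w_ne_one
    · subst h
      rw [show S.n * (S.z * S.w) * S.n⁻¹ = S.n * S.z * S.n⁻¹ * (S.n * S.w * S.n⁻¹) by group,
        S.n_z, S.n_w, mul_assoc, S.w_mul_self, mul_one] at hn
      exact absurd (left_eq_mul.1 hn) S.w_ne_one
  have hcover : ∀ N : Subgroup G, N.Normal → N ≠ ⊥ → ∀ x : G, x ∈ N ∨ x * S.z ∈ N := by
    intro N hNn hN
    haveI := hNn
    have hw := hwN N hNn hN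
    have hVN : S.V ≤ N := fun a ha => by
      by_cases ha1 : a = 1
      · exact ha1 ▸ one_mem _
      obtain ⟨k, -, hk⟩ := S.V_conj_w ha ha1
      exact hk ▸ hNn.conj_mem _ hw k
    have hv'N : S.v' ∈ N := hNn.conj_mem _ (hVN S.v_mem) S.n
    set K := (N.comap S.ι).map (MonoidHom.fst (Equiv.Perm (Fin 4)) (Multiplicative (ZMod 2))) with hK
    haveI : K.Normal := (hNn.comap S.ι).map _ fun σ => ⟨(σ, 1), rfl⟩
    have htop : K = ⊤ := eq_top_of_outer K S.pv_sq S.pv_not_klein
      ⟨S.pv, by simpa [S.ι_pv] using hv'N, rfl⟩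
    have hHN : ∀ x ∈ H, x ∈ N ∨ x * S.z ∈ N := by
      intro x hx
      obtain ⟨⟨σ, ε⟩, rfl⟩ := S.exists_ι hx
      obtain ⟨⟨σ', δ⟩, hδ, rfl⟩ : σ ∈ K := htop ▸ mem_top _
      have hδ' : S.ι (σ', δ) ∈ N := hδ
      rcases z2_cases δ with rfl | rfl <;> rcases z2_cases ε with rfl | rfl
      · exact Or.inl hδ'
      · right
        rw [Swap.z, ← map_mul]
        show S.ι ((σ', Multiplicative.ofAdd 1) * (1, Multiplicative.ofAdd 1)) ∈ N
        have h11 : ((σ', Multiplicative.ofAdd (1 : ZMod 2)) * (1, Multiplicative.ofAdd 1) : Model48) =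
            (σ', 1) := Prod.ext (mul_one σ') ofAdd_one_sq
        rw [h11]; exact hδ'
      · right
        rw [Swap.z, ← map_mul]
        simpa using hδ'
      · exact Or.inl hδ'
    intro x
    have : x ∈ N ⊔ H := by rw [sup_eq_top_of_normal hmax hcore hN]; trivial
    obtain ⟨a, ha, b, hb, rfl⟩ := (Subgroup.mem_sup_of_normal_left).1 this
    rcases hHN b hb with h' | h'
    · exact Or.inl (mul_mem ha h')
    · exact Or.inr (by rw [mul_assoc]; exact mul_mem ha h')
  have hMne : M ≠ ⊥ := fun hb => S.w_ne_one (mem_bot.1 (hb ▸ hVM S.w_mem_V))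
  have hMle : ∀ N : Subgroup G, N.Normal → N ≠ ⊥ → M ≤ N := by
    intro N hNn hN x hx
    haveI := hNn
    have hne : N ⊓ M ≠ ⊥ := fun hb => S.w_ne_one
      (mem_bot.1 (hb ▸ (⟨hwN N hNn hN, hVM S.w_mem_V⟩ : S.w ∈ N ⊓ M)))
    refine ((hcover (N ⊓ M) inferInstance hne x).resolve_right fun hxz => hzM ?_).1
    simpa using mul_mem (inv_mem hx) hxz.2
  have hCM : centralizer (M : Set G) = ⊥ := by
    by_contra hC
    have hle := hMle _ inferInstance hC
    have h1 : S.v * S.v' = S.v' * S.v := mem_centralizer_iff.1 (hle hv'M) S.v (hVM S.v_mem)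
    have h2 := S.v'_conj_v
    rw [← h1, mul_inv_cancel_right] at h2
    exact S.w_ne_one (left_eq_mul.1 h2)
  -- the 2-subgroup of M
  set T : Subgroup M := S.R.subgroupOf M
  have hT16 : Nat.card T = 16 := by
    have h1 := (M.subgroupOf S.R).card_mul_index
    have hi : M.relIndex S.R = 2 := by
      rcases (Nat.dvd_prime Nat.prime_two).1 (hMi ▸ relIndex_dvd_index_of_normal (H := M) (K := S.R))
        with h | h
      · exact absurd (Subgroup.relIndex_eq_one.1 h (S.D_le_R S.z_mem_D)) hzM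
      · exact h
    rw [← Subgroup.relIndex, hi, S.card_R] at h1
    have e1 : Nat.card T = Nat.card ↥(S.R ⊓ M) := by
      rw [← Nat.card_congr (Subgroup.subgroupOfEquivOfLe (inf_le_right : S.R ⊓ M ≤ M)).toEquiv,
        Subgroup.inf_subgroupOf_right]
    have e2 : Nat.card (M.subgroupOf S.R) = Nat.card ↥(S.R ⊓ M) := by
      rw [← Nat.card_congr (Subgroup.subgroupOfEquivOfLe (inf_le_left : S.R ⊓ M ≤ S.R)).toEquiv,
        Subgroup.inf_subgroupOf_left]
    omega
  have hTp : IsPGroup 2 T := isPGroup_two_of_card (n := 4) hT16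
  let P : Sylow 2 M := hTp.toSylow (by
    intro h2
    apply S.not_dvd_64
    rw [← M.card_mul_index, hMi, show 64 = 32 * 2 by norm_num]
    refine Nat.mul_dvd_mul_right ?_ 2
    rw [← T.card_mul_index, hT16, show 32 = 16 * 2 by norm_num]
    exact Nat.mul_dvd_mul_left 16 h2)
  have hP : (P : Subgroup M) = T := rfl
  -- the four-group in M
  set V : Subgroup M := S.V.subgroupOf M
  have hV : IsKleinFour V := isKleinFour_of_card _
    ((Nat.card_congr (Subgroup.subgroupOfEquivOfLe hVM).toEquiv).trans S.card_V)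
    fun v hv => Subtype.ext (S.V_sq hv)
  have hCV : centralizer (V : Set M) = V := by
    apply le_antisymm
    · intro x hx
      have hxA : (x : G) ∈ S.A := S.mem_A_of_centralizes fun v hv =>
        congrArg Subtype.val (mem_centralizer_iff.1 hx ⟨v, hVM hv⟩ hv)
      exact S.B_A (hDM _ (S.A_le_D hxA) x.2) hxA
    · intro x hx
      exact mem_centralizer_iff.2 fun v hv =>
        Subtype.ext (S.A_comm (S.V_le_A hv) (S.V_le_A hx))
  have hK24 : Nat.card (H.subgroupOf M) = 24 := by
    have h1 := (M.subgroupOf H).card_mul_index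
    have hi : M.relIndex H = 2 := by
      rcases (Nat.dvd_prime Nat.prime_two).1 (hMi ▸ relIndex_dvd_index_of_normal (H := M) (K := H))
        with h | h
      · exact absurd (Subgroup.relIndex_eq_one.1 h hzH) hzM
      · exact h
    rw [← Subgroup.relIndex, hi, hH48] at h1
    have e1 : Nat.card (H.subgroupOf M) = Nat.card ↥(H ⊓ M) := by
      rw [← Nat.card_congr (Subgroup.subgroupOfEquivOfLe (inf_le_right : H ⊓ M ≤ M)).toEquiv,
        Subgroup.inf_subgroupOf_right]
    have e2 : Nat.card (M.subgroupOf H) = Nat.card ↥(H ⊓ M) := by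
      rw [← Nat.card_congr (Subgroup.subgroupOfEquivOfLe (inf_le_left : H ⊓ M ≤ H)).toEquiv,
        Subgroup.inf_subgroupOf_left]
    omega
  have hNV : normalizer (V : Set M) = H.subgroupOf M := by
    ext x
    rw [mem_subgroupOf]
    constructor
    · intro hx
      refine S.normalizer_V.le (mem_normalizer_of_forall fun v hv => ?_)
      exact (mem_normalizer_iff.1 hx ⟨v, hVM hv⟩).1 hv
    · intro hx
      exact mem_normalizer_of_forall fun v hv =>
        (mem_normalizer_iff.1 (S.H_le_normalizer_V hx) _).1 hv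
  have hfix : Nat.card {x : M // S.z * (x : G) * S.z⁻¹ = x} = 24 := by
    rw [← hK24]
    refine Nat.card_congr (Equiv.subtypeEquivRight fun x => ?_)
    rw [mem_subgroupOf]
    constructor
    · intro hx
      refine S.mem_H_of_comm ?_
      rw [mul_inv_eq_iff_eq_mul] at hx ⊢
      exact hx.symm
    · intro hx
      rw [← S.z_comm hx, mul_inv_cancel_right]
  -- simplicity
  have hnsM : ¬ Group.IsSolvable M := not_isSolvable_of_normal hns hmax hcore hsolH hMne
  let β : MulAut M := MulAut.conjNormal S.z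
  have hβ2 : ∀ x, β (β x) = x := fun x => Subtype.ext (by
    simp only [β, MulAut.conjNormal_apply]
    rw [show S.z * (S.z * (x : G) * S.z⁻¹) * S.z⁻¹ = S.z * S.z * x * (S.z * S.z)⁻¹ by group,
      S.z_mul_self]
    simp)
  have hinvar : ∀ K : Subgroup M, K.Normal → (∀ x ∈ K, β x ∈ K) → (K.map M.subtype).Normal := by
    intro K hKn hKβ
    refine ⟨?_⟩
    rintro _ ⟨x, hx, rfl⟩ a
    by_cases ha : a ∈ M
    · exact ⟨⟨a, ha⟩ * x * ⟨a, ha⟩⁻¹, hKn.conj_mem x hx _, rfl⟩
    · have haz : a * S.z ∈ M := hxor.2 (iff_of_false ha hzM)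
      refine ⟨⟨a * S.z, haz⟩ * β x * ⟨a * S.z, haz⟩⁻¹, hKn.conj_mem _ (hKβ x hx) _, ?_⟩
      show a * S.z * ((β x : M) : G) * (a * S.z)⁻¹ = a * x * a⁻¹
      rw [MulAut.conjNormal_apply,
        show a * S.z * (S.z * (x : G) * S.z⁻¹) * (a * S.z)⁻¹ =
          a * (S.z * S.z) * x * (S.z * S.z)⁻¹ * a⁻¹ by group, S.z_mul_self]
      simp
  have hcentral : ∀ c : M, (∀ y ∈ T, y * c = c * y) → c ≠ 1 → (c : G) = S.w := by
    intro c hc hc1
    have hcV : c ∈ V := hCV ▸ mem_centralizer_iff.2 fun v hv => hc v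
      (show (v : G) ∈ S.R from S.D_le_R (S.V_le_D hv))
    have hv'c : S.v' * c = c * S.v' := congrArg Subtype.val
      (hc ⟨S.v', hv'M⟩ (show S.v' ∈ S.R from S.D_le_R S.v'_mem_D))
    rcases S.V_cases hcV with h | h | h | h
    · exact absurd (Subtype.ext h) hc1
    · exact h
    · exfalso
      change (c : G) = _ at h
      rw [h] at hv'c
      have h2 := S.v'_conj_v
      rw [hv'c, mul_inv_cancel_right] at h2
      exact S.w_ne_one (left_eq_mul.1 h2)
    · exfalso
      change (c : G) = _ at h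
      rw [h, ← mul_assoc, mul_assoc S.v S.w, S.w_comm S.v'_mem_D, ← mul_assoc] at hv'c
      have h3 := mul_right_cancel hv'c
      have h2 := S.v'_conj_v
      rw [h3, mul_inv_cancel_right] at h2
      exact S.w_ne_one (left_eq_mul.1 h2)
  haveI : Nontrivial M := (Subgroup.nontrivial_iff_ne_bot M).2 hMne
  have hsimple : IsSimpleGroup M := ⟨fun L hL => by
    haveI := hL
    by_contra! hcon
    obtain ⟨hL0, hL1⟩ := hcon
    set Lz : Subgroup M := L.comap β.toMonoidHom with hLz
    haveI : Lz.Normal := hL.comap _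
    have hmemLz : ∀ x, x ∈ Lz ↔ β x ∈ L := fun x => Iff.rfl
    by_cases hJ : L ⊓ Lz = ⊥
    · set J := L ⊔ Lz with hJdef
      have hJβ : ∀ x ∈ J, β x ∈ J := by
        intro x hx
        have : J ≤ J.comap β.toMonoidHom := by
          refine sup_le (fun y hy => ?_) (fun y hy => ?_)
          · exact (show Lz ≤ J from le_sup_right) ((hmemLz _).2 (by
              show β (β y) ∈ L
              rw [hβ2]; exact hy))
          · exact (show L ≤ J from le_sup_left) ((hmemLz _).1 hy)
        exact this hx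
      haveI := hinvar J inferInstance hJβ
      have hJne : J.map M.subtype ≠ ⊥ := fun hb => hL0 (le_bot_iff.1 (by
        rw [map_eq_bot_iff_of_injective J M.subtype_injective] at hb
        exact hb ▸ le_sup_left))
      have h2 := two_dvd_card_of_not_solvable (not_isSolvable_of_normal hns hmax hcore hsolH hJne)
      rw [card_map_of_injective M.subtype_injective] at h2
      have hLz' : Nat.card Lz = Nat.card L := by
        rw [hLz]
        exact Nat.card_congr (β.toEquiv.subtypeEquiv fun _ => Iff.rfl)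
      have hL2 : 2 ∣ Nat.card L := by
        have hd : Nat.card J ∣ Nat.card L * Nat.card Lz := by
          have h3 := (L.subgroupOf J).card_mul_index
          rw [Nat.card_congr (Subgroup.subgroupOfEquivOfLe (le_sup_left : L ≤ J)).toEquiv,
            ← Subgroup.relIndex] at h3
          have h4 : L.relIndex J = L.relIndex Lz := by
            rw [hJdef, sup_comm, Subgroup.relIndex_sup_right]
          rw [h4] at h3
          rw [← h3]
          exact Nat.mul_dvd_mul_left _ (Subgroup.relIndex_dvd_card (H := L) (K := Lz))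
        rw [hLz'] at hd
        rcases (Nat.Prime.dvd_mul Nat.prime_two).1 (h2.trans hd) with h | h <;> exact h
      obtain ⟨c, hcL, hc1, hcP, hcc⟩ := exists_central_mem L hL2 P
      have hcw := hcentral c (fun y hy => hcc y hy) hc1
      refine hc1 (mem_bot.1 (hJ ▸ (⟨hcL, (hmemLz c).2 ?_⟩ : c ∈ L ⊓ Lz)))
      have : β c = c := Subtype.ext (by
        simp only [β, MulAut.conjNormal_apply]
        rw [hcw, ← S.w_comm S.z_mem_D, mul_inv_cancel_right])
      rwa [this]
    · haveI := hinvar (L ⊓ Lz) inferInstance fun x hx => ⟨(hmemLz x).1 hx.2, (hmemLz _).2 (by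
        rw [hβ2]; exact hx.1)⟩
      have hne : (L ⊓ Lz).map M.subtype ≠ ⊥ := fun hb =>
        hJ ((map_eq_bot_iff_of_injective _ M.subtype_injective).1 hb)
      refine hL1 (top_unique fun x _ => ?_)
      obtain ⟨y, hy, hyx⟩ := hMle _ inferInstance hne x.2
      exact (Subtype.ext hyx : y = x) ▸ hy.1⟩
  refine ⟨M, hMn, hMi, hCM, hsimple, hnsM, S.z, hzM, S.z_mul_self, V, P, hV, hCV,
    hNV ▸ hK24, fun v hv => ?_, hfix, (by rw [hP, hT16]), ?_⟩
  · have hc : (v : G) * S.z = S.z * (v : G) := S.z_comm (S.V_le hv)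
    rw [← hc, mul_inv_cancel_right]
  refine maximal_class_type P.isPGroup' (by rw [hP, hT16]) (V.subgroupOf (P : Subgroup M)) ?_ ?_
  · have hVP : V ≤ (P : Subgroup M) := fun v hv =>
      show (v : G) ∈ S.R from S.D_le_R (S.V_le_D hv)
    exact isKleinFour_of_card _
      ((Nat.card_congr (Subgroup.subgroupOfEquivOfLe hVP).toEquiv).trans hV.card_four)
      fun v hv => Subtype.ext (Subtype.ext (S.V_sq hv))
  · ext p
    rw [mem_subgroupOf]
    conv_rhs => rw [← hCV]
    constructor
    · exact fun hp => mem_centralizer_iff.2 fun v hv => congrArg Subtype.val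
        (mem_centralizer_iff.1 hp ⟨v, show (v : G) ∈ S.R from S.D_le_R (S.V_le_D hv)⟩ hv)
    · exact fun hp => mem_centralizer_iff.2 fun v hv => Subtype.ext
        (mem_centralizer_iff.1 hp v hv)

end CfsgLib.SubdegreeThree
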