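import Cfsg.Agent.Lib.SubdegreeThree.EightModel

/-!
Local structure at a point stabilizer `S₄ × Z₂` of a primitive group with a suborbit of length three.
-/

set_option autoImplicit false
set_option linter.style.haveILetI false
set_option linter.unusedVariables false
set_option linter.unusedSectionVars false

open Subgroup

namespace CfsgLib.SubdegreeThree

variable {G : Type*} [Group G]

/-- A subgroup `D` together with its coset by an element `n` normalising it with square inside. -/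
def adjoin (D : Subgroup G) (n : G) (hn : n ∈ normalizer (D : Set G)) (h2 : n * n ∈ D) :
    Subgroup G where
  carrier := {x | x ∈ D ∨ n * x ∈ D}
  one_mem' := Or.inl (one_mem _)
  mul_mem' {x y} hx hy := by
    have cj := mem_normalizer_iff.1 hn
    have cj' := mem_normalizer_iff.1 (inv_mem hn)
    rcases hx with hx | hx <;> rcases hy with hy | hy
    · exact Or.inl (mul_mem hx hy)
    · refine Or.inr ?_
      rw [show n * (x * y) = n * x * n⁻¹ * (n * y) by group]
      exact mul_mem ((cj x).1 hx) hy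
    · refine Or.inr ?_
      rw [← mul_assoc]
      exact mul_mem hx hy
    · refine Or.inl ?_
      rw [show x * y = n⁻¹ * (n * x) * n⁻¹⁻¹ * ((n * n)⁻¹ * (n * y)) by group]
      exact mul_mem ((cj' _).1 hx) (mul_mem (inv_mem h2) hy)
  inv_mem' {x} hx := by
    rcases hx with hx | hx
    · exact Or.inl (inv_mem hx)
    · refine Or.inr ?_
      rw [show n * x⁻¹ = n * (n * x)⁻¹ * n⁻¹ * (n * n) by group]
      exact mul_mem ((mem_normalizer_iff.1 hn _).1 (inv_mem hx)) h2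

theorem mem_adjoin {D : Subgroup G} {n : G} {hn : n ∈ normalizer (D : Set G)} {h2 : n * n ∈ D}
    {x : G} : x ∈ adjoin D n hn h2 ↔ x ∈ D ∨ n * x ∈ D := Iff.rfl

theorem le_adjoin (D : Subgroup G) (n : G) (hn : n ∈ normalizer (D : Set G)) (h2 : n * n ∈ D) :
    D ≤ adjoin D n hn h2 := fun _ h => Or.inl h

theorem self_mem_adjoin (D : Subgroup G) (n : G) (hn : n ∈ normalizer (D : Set G))
    (h2 : n * n ∈ D) : n ∈ adjoin D n hn h2 := Or.inr h2

theorem card_adjoin [Finite G] (D : Subgroup G) (n : G) (hn : n ∈ normalizer (D : Set G))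
    (h2 : n * n ∈ D) (hnD : n ∉ D) : Nat.card (adjoin D n hn h2) = 2 * Nat.card D := by
  have hi : (D.subgroupOf (adjoin D n hn h2)).index = 2 := by
    rw [index_eq_two_iff']
    refine ⟨⟨n, self_mem_adjoin D n hn h2⟩, fun b => ?_⟩
    rw [mem_subgroupOf, mem_subgroupOf, Subgroup.coe_mul]
    rcases b.2 with h | h
    · exact Or.inr ⟨h, fun hn' => hnD (by simpa using mul_mem hn' (inv_mem h))⟩
    · exact Or.inl ⟨h, fun hb => hnD (by simpa using mul_mem h (inv_mem hb))⟩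
  rw [← (D.subgroupOf (adjoin D n hn h2)).card_mul_index, hi,
    Nat.card_congr (Subgroup.subgroupOfEquivOfLe (le_adjoin D n hn h2)).toEquiv, mul_comm]

/-- The data at a stabilizer `S₄ × Z₂`: an element outside normalising a subgroup of index three. -/
structure Swap (H : Subgroup G) where
  ι : Model48 →* G
  inj : Function.Injective ι
  range : ι.range = H
  D : Subgroup G
  DH : D ≤ H
  rel : D.relIndex H = 3
  n : G
  nD : n ∈ normalizer (D : Set G)
  nH : n ∉ H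
  hmax : IsCoatom H
  hcore : H.normalCore = ⊥

namespace Swap

variable {H : Subgroup G} (S : Swap H)

/-- The central involution. -/
def z : G := S.ι (1, Multiplicative.ofAdd 1)

/-- The normal four-group. -/
def V : Subgroup G := klein.map (S.ι.comp (MonoidHom.inl _ _))

/-- The centralizer of the four-group. -/
def A : Subgroup G := (klein.prod ⊤).map S.ι

theorem ιH (p : Model48) : S.ι p ∈ H := by
  exact (SetLike.ext_iff.1 S.range _).1 ⟨p, rfl⟩

theorem exists_ι {x : G} (hx : x ∈ H) : ∃ p, S.ι p = x := by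
  exact (SetLike.ext_iff.1 S.range x).2 hx

theorem mem_V {x : G} : x ∈ S.V ↔ ∃ σ ∈ klein, S.ι (σ, 1) = x := Iff.rfl

theorem ι_mem_A {p : Model48} : S.ι p ∈ S.A ↔ p.1 ∈ klein :=
  ⟨fun ⟨q, hq, h⟩ => S.inj h ▸ hq.1, fun h => ⟨p, ⟨h, trivial⟩, rfl⟩⟩

theorem ι_mem_V {p : Model48} : S.ι p ∈ S.V ↔ p.1 ∈ klein ∧ p.2 = 1 :=
  ⟨fun ⟨σ, hσ, h⟩ => S.inj h ▸ ⟨hσ, rfl⟩, fun h => ⟨p.1, h.1, by
    show S.ι (p.1, 1) = S.ι p
    rw [← h.2]⟩⟩

theorem V_le_A : S.V ≤ S.A := by
  rintro _ ⟨σ, hσ, rfl⟩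
  exact S.ι_mem_A.2 hσ

theorem A_le : S.A ≤ H := by
  rintro _ ⟨p, -, rfl⟩
  exact S.ιH p

theorem V_le : S.V ≤ H := S.V_le_A.trans S.A_le

theorem z_mem_A : S.z ∈ S.A := S.ι_mem_A.2 (one_mem _)

theorem z_ne_one : S.z ≠ 1 := fun h => by
  have := congrArg Prod.snd (S.inj (h.trans (map_one S.ι).symm))
  simp at this

theorem z_mul_self : S.z * S.z = 1 := by
  rw [z, ← map_mul, ← map_one S.ι]
  congr 1

theorem orderOf_z : orderOf S.z = 2 :=
  orderOf_eq_prime_iff (p := 2) |>.2 ⟨by rw [pow_two]; exact S.z_mul_self, S.z_ne_one⟩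

theorem z_comm {x : G} (hx : x ∈ H) : x * S.z = S.z * x := by
  obtain ⟨⟨σ, ε⟩, rfl⟩ := S.exists_ι hx
  rw [z, ← map_mul, ← map_mul]
  exact congrArg S.ι (Prod.ext (by simp) (mul_comm _ _))

theorem card_H (S : Swap H) : Nat.card H = 48 := by
  have h : Nat.card S.ι.range = 48 := by
    rw [← Nat.card_congr (MonoidHom.ofInjective S.inj).toEquiv, Nat.card_prod, card_perm_four]
    simp
  rwa [S.range] at h

theorem card_V : Nat.card S.V = 4 := by
  rw [V, card_map_of_injective (f := S.ι.comp (MonoidHom.inl _ _)), card_klein]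
  exact S.inj.comp fun _ _ h => (Prod.mk.injEq _ _ _ _ ▸ h).1

theorem card_A : Nat.card S.A = 8 := by
  rw [A, card_map_of_injective S.inj, Nat.card_congr (Subgroup.prodEquiv _ _).toEquiv,
    Nat.card_prod, card_klein, Subgroup.card_top]
  simp

theorem A_comm {x y : G} (hx : x ∈ S.A) (hy : y ∈ S.A) : x * y = y * x := by
  obtain ⟨p, hp, rfl⟩ := hx
  obtain ⟨q, hq, rfl⟩ := hy
  rw [← map_mul, ← map_mul]
  exact congrArg S.ι (Prod.ext (klein_comm hp.1 hq.1) (mul_comm _ _))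

theorem V_sq {x : G} (hx : x ∈ S.V) : x * x = 1 := by
  obtain ⟨σ, hσ, rfl⟩ := hx
  rw [← map_mul, klein_exponent hσ, map_one]

theorem isKleinFour_V : IsKleinFour S.V := isKleinFour_of_card _ S.card_V fun _ => S.V_sq

section Finite

variable [Finite G]

theorem centralizer_z : centralizer ({S.z} : Set G) = H := by
  apply le_antisymm
  · have h : normalizer (zpowers S.z : Set G) = H := by
      refine normalizer_eq_of_le S.hmax S.hcore (zpowers_le.2 (S.A_le S.z_mem_A))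
        (by simpa using S.z_ne_one) fun x hx => mem_normalizer_of_forall ?_
      rintro _ ⟨k, rfl⟩
      refine ⟨k, ?_⟩
      rw [← conj_zpow, S.z_comm hx, mul_inv_cancel_right]
    intro x hx
    rw [← h]
    refine mem_normalizer_of_forall ?_
    rintro _ ⟨k, rfl⟩
    refine ⟨k, ?_⟩
    rw [← conj_zpow, ← mem_centralizer_iff.1 hx S.z rfl, mul_inv_cancel_right]
  · exact fun x hx => mem_centralizer_iff.2 fun y hy => by
      rw [Set.mem_singleton_iff.1 hy]; exact (S.z_comm hx).symm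

theorem mem_H_of_comm {x : G} (hx : x * S.z * x⁻¹ = S.z) : x ∈ H := by
  rw [← S.centralizer_z]
  refine mem_centralizer_iff.2 fun y hy => ?_
  rw [Set.mem_singleton_iff.1 hy]
  exact (mul_inv_eq_iff_eq_mul.1 hx).symm

theorem H_le_normalizer_V : H ≤ normalizer (S.V : Set G) := fun x hx =>
  mem_normalizer_of_forall fun v hv => by
    obtain ⟨⟨σ, ε⟩, rfl⟩ := S.exists_ι hx
    obtain ⟨τ, hτ, rfl⟩ := hv
    refine ⟨σ * τ * σ⁻¹, klein_normal.conj_mem τ hτ σ, ?_⟩
    simp only [MonoidHom.comp_apply, MonoidHom.inl_apply, ← map_inv, ← map_mul]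
    exact congrArg S.ι (Prod.ext rfl (by simp))

theorem normalizer_V : normalizer (S.V : Set G) = H :=
  normalizer_eq_of_le S.hmax S.hcore S.V_le (fun h => by
    have := S.card_V
    rw [h, card_bot] at this
    omega) S.H_le_normalizer_V

theorem normalizer_A : normalizer (S.A : Set G) = H :=
  normalizer_eq_of_le S.hmax S.hcore S.A_le (fun h => by
    have := S.card_A
    rw [h, card_bot] at this
    omega) fun x hx => mem_normalizer_of_forall fun a ha => by
      obtain ⟨p, rfl⟩ := S.exists_ι hx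
      obtain ⟨q, hq, rfl⟩ := ha
      exact ⟨p * q * p⁻¹, ⟨klein_normal.conj_mem q.1 hq.1 p.1, trivial⟩, by simp⟩

theorem mem_A_of_centralizes {x : G} (h : ∀ v ∈ S.V, v * x = x * v) : x ∈ S.A := by
  have hxH : x ∈ H := by
    rw [← S.normalizer_V]
    exact mem_normalizer_of_forall fun v hv => by
      rw [← h v hv, mul_inv_cancel_right]; exact hv
  obtain ⟨p, rfl⟩ := S.exists_ι hxH
  refine S.ι_mem_A.2 (klein_centralizer p.1 fun v hv => ?_)
  have := S.inj ((map_mul S.ι (v, 1) p).trans ((h _ ⟨v, hv, rfl⟩).trans (map_mul S.ι p (v, 1)).symm))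
  exact congrArg Prod.fst this

theorem card_D : Nat.card S.D = 16 := by
  have := card_of_rel_three S.DH S.rel
  rw [S.card_H] at this
  omega

theorem isPGroup_D : IsPGroup 2 S.D := isPGroup_two_of_card (n := 4) S.card_D

theorem A_le_D : S.A ≤ S.D :=
  le_of_rel_three S.DH S.rel S.isPGroup_D S.A_le (isPGroup_two_of_card (n := 3) S.card_A)
    (S.DH.trans S.normalizer_A.ge)

theorem V_le_D : S.V ≤ S.D := S.V_le_A.trans S.A_le_D

theorem z_mem_D : S.z ∈ S.D := S.A_le_D S.z_mem_A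

/-- A 2-subgroup of `H` containing `D` is `D`. -/
theorem mem_D_of_two_group {K : Subgroup G} (hK : IsPGroup 2 K) (hDK : S.D ≤ K) {x : G}
    (hxK : x ∈ K) (hxH : x ∈ H) : x ∈ S.D := by
  obtain ⟨a, ha⟩ := (hK.to_le (inf_le_left : K ⊓ H ≤ K)).exists_card_eq
  have h1 : Nat.card ↥(K ⊓ H) ∣ 48 := S.card_H ▸ Subgroup.card_dvd_of_le inf_le_right
  rw [ha] at h1
  have h2 : 2 ^ a ∣ 16 * 3 := h1
  have h3 : 2 ^ a ∣ 16 :=
    (Nat.Coprime.pow_left a (by norm_num : Nat.Coprime 2 3)).dvd_of_dvd_mul_right h2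
  have heq : S.D = K ⊓ H := Subgroup.eq_of_le_of_card_ge (le_inf hDK S.DH)
    (by rw [ha, S.card_D]; exact Nat.le_of_dvd (by norm_num) h3)
  rw [heq]; exact ⟨hxK, hxH⟩

theorem conj_mem_D {x : G} (hx : x ∈ S.D) : S.n * x * S.n⁻¹ ∈ S.D :=
  (mem_normalizer_iff.1 S.nD x).1 hx

theorem conj_inv_mem_D {x : G} (hx : x ∈ S.D) : S.n⁻¹ * x * S.n ∈ S.D := by
  simpa using (mem_normalizer_iff.1 (inv_mem S.nD) x).1 hx

/-- Data derived from a swap: the distinguished involution and the moved element. -/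
theorem exists_w : ∃ σ ∈ klein, σ ≠ 1 ∧ ∀ d ∈ S.D, S.ι (σ, 1) * d = d * S.ι (σ, 1) := by
  haveI : Fact (Nat.Prime 2) := ⟨Nat.prime_two⟩
  haveI : (S.V.subgroupOf S.D).Normal :=
    (Subgroup.normal_subgroupOf_iff_le_normalizer S.V_le_D).2 (S.DH.trans S.H_le_normalizer_V)
  have hne : S.V.subgroupOf S.D ≠ ⊥ := fun h => by
    have := Nat.card_congr (Subgroup.subgroupOfEquivOfLe S.V_le_D).toEquiv
    rw [h, card_bot, S.card_V] at this
    omega
  obtain ⟨c, hc, hc1, hcz⟩ := CfsgLib.TwoGroups.exists_mem_center_of_normal S.isPGroup_D hne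
  obtain ⟨σ, hσ, hσc⟩ := S.mem_V.1 (mem_subgroupOf.1 hc)
  refine ⟨σ, hσ, fun h => hc1 (Subtype.ext ?_), fun d hd => ?_⟩
  · rw [← hσc, h, Prod.mk_one_one, map_one]; rfl
  · rw [hσc]
    exact (congrArg Subtype.val (mem_center_iff.1 hcz ⟨d, hd⟩)).symm

/-- The model element of the distinguished involution. -/
noncomputable def sw : Equiv.Perm (Fin 4) := S.exists_w.choose

/-- The distinguished involution of the four-group. -/
noncomputable def w : G := S.ι (S.sw, 1)

theorem sw_mem : S.sw ∈ klein := S.exists_w.choose_spec.1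

theorem sw_ne : S.sw ≠ 1 := S.exists_w.choose_spec.2.1

theorem w_comm {d : G} (hd : d ∈ S.D) : S.w * d = d * S.w := S.exists_w.choose_spec.2.2 d hd

theorem w_mem_V : S.w ∈ S.V := ⟨S.sw, S.sw_mem, rfl⟩

theorem w_ne_one : S.w ≠ 1 := fun h => S.sw_ne <| by
  exact congrArg Prod.fst (S.inj (h.trans (map_one S.ι).symm))

theorem w_mul_self : S.w * S.w = 1 := S.V_sq S.w_mem_V

theorem w_mem_D : S.w ∈ S.D := S.V_le_D S.w_mem_V

theorem w_ne_z : S.w ≠ S.z := fun h => by
  have := congrArg Prod.snd (S.inj h)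
  exact absurd (show (1 : Multiplicative (ZMod 2)) = Multiplicative.ofAdd 1 from this) (by decide)

theorem sw_comm {p : Model48} (hp : S.ι p ∈ S.D) : S.sw * p.1 = p.1 * S.sw := by
  have h := S.w_comm hp
  rw [w, ← map_mul, ← map_mul] at h
  exact congrArg Prod.fst (S.inj h)

theorem commutator_D {x y : G} (hx : x ∈ S.D) (hy : y ∈ S.D) :
    x * y * x⁻¹ * y⁻¹ = 1 ∨ x * y * x⁻¹ * y⁻¹ = S.w := by
  obtain ⟨p, rfl⟩ := S.exists_ι (S.DH hx)
  obtain ⟨q, rfl⟩ := S.exists_ι (S.DH hy)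
  rw [← map_inv, ← map_inv, ← map_mul, ← map_mul, ← map_mul]
  rcases commutator_klein S.sw p.1 q.1 S.sw_mem S.sw_ne (S.sw_comm hx) (S.sw_comm hy) with h | h
  · left
    rw [← map_one S.ι]
    exact congrArg S.ι (Prod.ext h (by simp [mul_comm p.2 q.2]))
  · right
    exact congrArg S.ι (Prod.ext h (by simp [mul_comm p.2 q.2]))

theorem exists_not_mem_A : ∃ d ∈ S.D, d ∉ S.A := by
  by_contra! h
  have := Subgroup.card_le_of_le (show S.D ≤ S.A from h)
  rw [S.card_D, S.card_A] at this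
  omega

theorem exists_commutator : ∃ x ∈ S.D, ∃ y ∈ S.D, x * y * x⁻¹ * y⁻¹ = S.w := by
  obtain ⟨d, hd, hdA⟩ := S.exists_not_mem_A
  by_contra! h
  refine hdA (S.mem_A_of_centralizes fun v hv => ?_)
  have := (S.commutator_D hd (S.V_le_D hv)).resolve_right (h d hd v (S.V_le_D hv))
  rw [mul_inv_eq_one, mul_inv_eq_iff_eq_mul] at this
  exact this.symm

theorem n_w : S.n * S.w * S.n⁻¹ = S.w := by
  obtain ⟨x, hx, y, hy, h⟩ := S.exists_commutator
  have h' : S.n * S.w * S.n⁻¹ = S.n * x * S.n⁻¹ * (S.n * y * S.n⁻¹) * (S.n * x * S.n⁻¹)⁻¹ *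
      (S.n * y * S.n⁻¹)⁻¹ := by rw [← h]; group
  rw [h']
  refine (S.commutator_D (S.conj_mem_D hx) (S.conj_mem_D hy)).resolve_left fun he => S.w_ne_one ?_
  rw [he] at h'
  exact conj_eq_one_iff.1 h'

theorem not_conj_w (g : G) : g * S.z * g⁻¹ ≠ S.w := by
  intro hg
  have hmem : ∀ d ∈ S.D, g⁻¹ * d * g ∈ H := fun d hd => by
    refine S.mem_H_of_comm ?_
    have hz : S.z = g⁻¹ * S.w * g := by rw [← hg]; group
    rw [hz, show g⁻¹ * d * g * (g⁻¹ * S.w * g) * (g⁻¹ * d * g)⁻¹ = g⁻¹ * (d * S.w * d⁻¹) * g by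
      group, ← S.w_comm hd, mul_inv_cancel_right]
  obtain ⟨x, hx, y, hy, h⟩ := S.exists_commutator
  obtain ⟨p, hp⟩ := S.exists_ι (hmem x hx)
  obtain ⟨q, hq⟩ := S.exists_ι (hmem y hy)
  have hc : S.ι (p * q * p⁻¹ * q⁻¹) = S.z := by
    rw [map_mul, map_mul, map_mul, map_inv, map_inv, hp, hq]
    have hz : S.z = g⁻¹ * S.w * g := by rw [← hg]; group
    rw [hz, ← h]; group
  have := congrArg Prod.snd (S.inj hc)
  simp [mul_comm p.2 q.2] at this
  exact absurd this (by decide)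

/-- A central involution of `D` is one of `w`, `z`, `zw`. -/
theorem central_D {x : G} (hxD : x ∈ S.D) (hx : ∀ d ∈ S.D, d * x = x * d) :
    x = 1 ∨ x = S.w ∨ x = S.z ∨ x = S.z * S.w := by
  have hxA : x ∈ S.A := S.mem_A_of_centralizes fun v hv => hx v (S.V_le_D hv)
  obtain ⟨d, hd, hdA⟩ := S.exists_not_mem_A
  obtain ⟨p, rfl⟩ := S.exists_ι (S.DH hxD)
  obtain ⟨q, rfl⟩ := S.exists_ι (S.DH hd)
  have hcomm : p.1 * q.1 = q.1 * p.1 := by
    have := hx _ hd
    rw [← map_mul, ← map_mul] at this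
    exact (congrArg Prod.fst (S.inj this)).symm
  obtain ⟨σ, ε⟩ := p
  rcases klein_fixed_of_outer S.sw q.1 σ S.sw_mem S.sw_ne (fun h => hdA (S.ι_mem_A.2 h))
    (S.sw_comm hd) (S.ι_mem_A.1 hxA) hcomm with rfl | rfl <;> rcases z2_cases ε with rfl | rfl
  · left; rw [Prod.mk_one_one, map_one]
  · right; right; left; rfl
  · right; left; rfl
  · right; right; right
    rw [z, w, ← map_mul]
    simp

theorem n_z : S.n * S.z * S.n⁻¹ = S.z * S.w := by
  have hc : ∀ d ∈ S.D, d * (S.n * S.z * S.n⁻¹) = S.n * S.z * S.n⁻¹ * d := fun d hd => by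
    have := S.z_comm (S.DH (S.conj_inv_mem_D hd))
    calc d * (S.n * S.z * S.n⁻¹) = S.n * (S.n⁻¹ * d * S.n * S.z) * S.n⁻¹ := by group
      _ = S.n * (S.z * (S.n⁻¹ * d * S.n)) * S.n⁻¹ := by rw [this]
      _ = S.n * S.z * S.n⁻¹ * d := by group
  rcases S.central_D (S.conj_mem_D S.z_mem_D) hc with h | h | h | h
  · exact absurd (conj_eq_one_iff.1 h) S.z_ne_one
  · exact absurd h (S.not_conj_w S.n)
  · exact absurd (S.mem_H_of_comm h) S.nH
  · exact h

theorem not_normal_D : ¬ H ≤ normalizer (S.D : Set G) := fun h => S.nH <| by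
  refine (normalizer_eq_of_le S.hmax S.hcore S.DH (fun hb => ?_) h).le ?_
  swap
  · exact S.nD
  · have := S.card_D
    rw [hb, card_bot] at this
    omega

theorem n_sq : S.n * S.n ∈ S.D := by
  refine mem_of_normalizer S.DH S.rel S.not_normal_D (S.mem_H_of_comm ?_) (mul_mem S.nD S.nD)
  calc S.n * S.n * S.z * (S.n * S.n)⁻¹ = S.n * (S.n * S.z * S.n⁻¹) * S.n⁻¹ := by group
    _ = S.n * (S.z * S.w) * S.n⁻¹ := by rw [S.n_z]
    _ = S.n * S.z * S.n⁻¹ * (S.n * S.w * S.n⁻¹) := by group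
    _ = S.z := by rw [S.n_z, S.n_w, mul_assoc, S.w_mul_self, mul_one]

theorem nn_normalizes {K : Subgroup G} (hK : H ≤ normalizer (K : Set G)) {x : G} (hx : x ∈ K) :
    S.n * (S.n * x * S.n⁻¹) * S.n⁻¹ ∈ K := by
  have := (mem_normalizer_iff.1 (hK (S.DH S.n_sq)) x).1 hx
  rwa [show S.n * S.n * x * (S.n * S.n)⁻¹ = S.n * (S.n * x * S.n⁻¹) * S.n⁻¹ by group] at this

theorem inv_conj_normalizes {K : Subgroup G} (hK : H ≤ normalizer (K : Set G)) {x : G}
    (hx : x ∈ K) : S.n⁻¹ * (S.n⁻¹ * x * S.n) * S.n ∈ K := by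
  have := (mem_normalizer_iff.1 (hK (inv_mem (S.DH S.n_sq))) x).1 hx
  rwa [show (S.n * S.n)⁻¹ * x * (S.n * S.n)⁻¹⁻¹ = S.n⁻¹ * (S.n⁻¹ * x * S.n) * S.n by
    simp [mul_assoc]] at this

theorem exists_moved : ∃ v ∈ S.V, S.n * v * S.n⁻¹ ∉ S.A := by
  by_contra! h
  refine S.nH (S.normalizer_A.le ?_)
  have key : ∀ a ∈ S.A, S.n⁻¹ * a * S.n ∈ S.A := fun a ha => S.mem_A_of_centralizes fun v hv => by
    have := S.A_comm (h v hv) ha
    calc v * (S.n⁻¹ * a * S.n) = S.n⁻¹ * (S.n * v * S.n⁻¹ * a) * S.n := by group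
      _ = S.n⁻¹ * (a * (S.n * v * S.n⁻¹)) * S.n := by rw [this]
      _ = S.n⁻¹ * a * S.n * v := by group
  refine inv_mem_iff.1 (mem_normalizer_of_forall fun a ha => ?_)
  simpa using key a ha

end Finite

end Swap

end CfsgLib.SubdegreeThree
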