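import Cfsg.Agent.Lib.SubdegreeThree.Common

/-!
Facts about `S₄` and `S₄ × Z₂` used in the case of a point stabilizer `S₄ × Z₂`.
-/

set_option autoImplicit false
set_option linter.style.haveILetI false
set_option linter.unusedVariables false

open Subgroup

namespace CfsgLib.SubdegreeThree

/-- The model `S₄ × Z₂`. -/
abbrev Model48 : Type := Equiv.Perm (Fin 4) × Multiplicative (ZMod 2)

theorem z2_cases : ∀ ε : Multiplicative (ZMod 2), ε = 1 ∨ ε = Multiplicative.ofAdd 1 := by decide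

theorem commutator_klein (w x y : Equiv.Perm (Fin 4)) (hw : w ∈ klein) (hw1 : w ≠ 1)
    (hx : w * x = x * w) (hy : w * y = y * w) :
    x * y * x⁻¹ * y⁻¹ = 1 ∨ x * y * x⁻¹ * y⁻¹ = w := by
  have key : ∀ (w : {w : Equiv.Perm (Fin 4) // w ∈ klein ∧ w ≠ 1}) (x y : Equiv.Perm (Fin 4)),
      ¬ (w.1 * x = x * w.1 ∧ w.1 * y = y * w.1) ∨
        x * y * x⁻¹ * y⁻¹ = 1 ∨ x * y * x⁻¹ * y⁻¹ = w.1 := by decide +kernel
  exact (key ⟨w, hw, hw1⟩ x y).resolve_left (not_not_intro ⟨hx, hy⟩)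

theorem outer_two (x y w : Equiv.Perm (Fin 4)) (hx2 : x * x = 1) (hx : x ∉ klein)
    (hy2 : y * y = 1) (hy : y ∉ klein) (hw : w ∈ klein) (hw1 : w ≠ 1)
    (hwx : w * x = x * w) (hwy : w * y = y * w) : y = x ∨ y = x * w := by
  have key : ∀ (x y : {x : Equiv.Perm (Fin 4) // x * x = 1 ∧ x ∉ klein})
      (w : {w : Equiv.Perm (Fin 4) // w ∈ klein ∧ w ≠ 1}),
      ¬ (w.1 * x.1 = x.1 * w.1 ∧ w.1 * y.1 = y.1 * w.1) ∨
        y.1 = x.1 ∨ y.1 = x.1 * w.1 := by decide +kernel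
  exact (key ⟨x, hx2, hx⟩ ⟨y, hy2, hy⟩ ⟨w, hw, hw1⟩).resolve_left (not_not_intro ⟨hwx, hwy⟩)

theorem klein_fixed_of_outer (w t x : Equiv.Perm (Fin 4)) (hw : w ∈ klein) (hw1 : w ≠ 1)
    (ht : t ∉ klein) (hwt : w * t = t * w) (hx : x ∈ klein) (hxt : x * t = t * x) :
    x = 1 ∨ x = w := by
  have key : ∀ (w : {w : Equiv.Perm (Fin 4) // w ∈ klein ∧ w ≠ 1})
      (t : {t : Equiv.Perm (Fin 4) // t ∉ klein}) (x : {x : Equiv.Perm (Fin 4) // x ∈ klein}),
      ¬ (w.1 * t.1 = t.1 * w.1 ∧ x.1 * t.1 = t.1 * x.1) ∨ x.1 = 1 ∨ x.1 = w.1 := by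
    decide +kernel
  exact (key ⟨w, hw, hw1⟩ ⟨t, ht⟩ ⟨x, hx⟩).resolve_left (not_not_intro ⟨hwt, hxt⟩)

theorem klein_four_elements (w v x : Equiv.Perm (Fin 4)) (hw : w ∈ klein) (hw1 : w ≠ 1)
    (hv : v ∈ klein) (hv1 : v ≠ 1) (hvw : v ≠ w) (hx : x ∈ klein) :
    x = 1 ∨ x = w ∨ x = v ∨ x = v * w := by
  have key : ∀ w v x : {x : Equiv.Perm (Fin 4) // x ∈ klein},
      w.1 = 1 ∨ v.1 = 1 ∨ v.1 = w.1 ∨ x.1 = 1 ∨ x.1 = w.1 ∨ x.1 = v.1 ∨ x.1 = v.1 * w.1 := by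
    decide +kernel
  rcases key ⟨w, hw⟩ ⟨v, hv⟩ ⟨x, hx⟩ with h | h | h | h
  · exact absurd h hw1
  · exact absurd h hv1
  · exact absurd h hvw
  · exact h

theorem klein_comm {a b : Equiv.Perm (Fin 4)} (ha : a ∈ klein) (hb : b ∈ klein) : a * b = b * a := by
  have key : ∀ a b : {x : Equiv.Perm (Fin 4) // x ∈ klein}, a.1 * b.1 = b.1 * a.1 := by
    decide +kernel
  exact key ⟨a, ha⟩ ⟨b, hb⟩

/-- The sign as a map to `Z₂`. -/
def sgn2 : Equiv.Perm (Fin 4) →* Multiplicative (ZMod 2) :=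
  MonoidHom.mk' (fun σ => if Equiv.Perm.sign σ = 1 then 1 else Multiplicative.ofAdd 1) (by
    decide +kernel)

theorem sgn2_of_klein {x : Equiv.Perm (Fin 4)} (hx : x ∈ klein) : sgn2 x = 1 := by
  simp [sgn2, (mem_klein.1 hx).2]

theorem sgn2_of_outer {x : Equiv.Perm (Fin 4)} (hx : x * x = 1) (hxk : x ∉ klein) :
    sgn2 x = Multiplicative.ofAdd 1 := by
  have : Equiv.Perm.sign x ≠ 1 := fun h => hxk ⟨hx, h⟩
  simp [sgn2, this]

/-- A character of `S₄ × Z₂`, nontrivial on the central factor, trivial at a given involution. -/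
def chi (p : Model48) : Model48 →* Multiplicative (ZMod 2) :=
  if p.2 = 1 then MonoidHom.snd _ _
  else MonoidHom.snd _ _ * sgn2.comp (MonoidHom.fst _ _)

theorem chi_z (p : Model48) : chi p (1, Multiplicative.ofAdd 1) = Multiplicative.ofAdd 1 := by
  unfold chi
  split <;> simp

theorem chi_klein (p : Model48) {σ : Equiv.Perm (Fin 4)} (hσ : σ ∈ klein)
    (ε : Multiplicative (ZMod 2)) : chi p (σ, ε) = ε := by
  unfold chi
  split <;> simp [sgn2_of_klein hσ]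

theorem chi_self {p : Model48} (hp : p.1 * p.1 = 1) (hpk : p.1 ∉ klein) : chi p p = 1 := by
  unfold chi
  split
  · assumption
  · rename_i h
    have h2 := (z2_cases p.2).resolve_left h
    simp only [MonoidHom.mul_apply, MonoidHom.coe_snd, MonoidHom.coe_comp, Function.comp_apply,
      MonoidHom.coe_fst, sgn2_of_outer hp hpk, h2]
    decide

theorem chi_ext (p : Model48) {a b : Model48} (ha : chi p a = 1) (hb : chi p b = 1)
    (h : a.1 = b.1) : a = b := by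
  refine Prod.ext h ?_
  unfold chi at ha hb
  split at ha
  · simp_all
  · simp_all
    exact mul_right_cancel (ha.trans hb.symm)

end CfsgLib.SubdegreeThree
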