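import Cfsg.Agent.Lib.SubdegreeThree.EightLocal

/-!
The Sylow 2-subgroup of order 32 and an index-two subgroup avoiding the conjugates of `z`.
-/

set_option autoImplicit false
set_option linter.style.haveILetI false
set_option linter.unusedVariables false
set_option linter.unusedSectionVars false

open Subgroup

namespace CfsgLib.SubdegreeThree

namespace Swap

variable {G : Type*} [Group G] [Finite G] {H : Subgroup G} (S : Swap H)

theorem n_inv_z : S.n⁻¹ * S.z * S.n = S.z * S.w := by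
  have h : S.n * (S.z * S.w) * S.n⁻¹ = S.z := by
    rw [show S.n * (S.z * S.w) * S.n⁻¹ = S.n * S.z * S.n⁻¹ * (S.n * S.w * S.n⁻¹) by group,
      S.n_z, S.n_w, mul_assoc, S.w_mul_self, mul_one]
  calc S.n⁻¹ * S.z * S.n = S.n⁻¹ * (S.n * (S.z * S.w) * S.n⁻¹) * S.n := by rw [h]
    _ = S.z * S.w := by group

theorem n_inv_w : S.n⁻¹ * S.w * S.n = S.w := by
  calc S.n⁻¹ * S.w * S.n = S.n⁻¹ * (S.n * S.w * S.n⁻¹) * S.n := by rw [S.n_w]
    _ = S.w := by group

/-- An element of the four-group moved out of its centralizer. -/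
noncomputable def v : G := S.exists_moved.choose

/-- Its image. -/
noncomputable def v' : G := S.n * S.v * S.n⁻¹

theorem v_mem : S.v ∈ S.V := S.exists_moved.choose_spec.1

theorem v'_not_A : S.v' ∉ S.A := S.exists_moved.choose_spec.2

theorem v'_mem_D : S.v' ∈ S.D := S.conj_mem_D (S.V_le_D S.v_mem)

theorem v'_sq : S.v' * S.v' = 1 := by
  rw [v', show S.n * S.v * S.n⁻¹ * (S.n * S.v * S.n⁻¹) = S.n * (S.v * S.v) * S.n⁻¹ by group,
    S.V_sq S.v_mem, mul_one, mul_inv_cancel]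

theorem w_mem_A : S.w ∈ S.A := S.V_le_A S.w_mem_V

theorem v'w_not_A : S.v' * S.w ∉ S.A := fun h => S.v'_not_A <| by
  simpa [mul_assoc, S.w_mul_self] using mul_mem h S.w_mem_A

theorem v_ne_one : S.v ≠ 1 := fun h => S.v'_not_A <| by
  rw [v', h]; simp [one_mem]

theorem v_ne_w : S.v ≠ S.w := fun h => S.v'_not_A <| by
  rw [v', h, S.n_w]; exact S.w_mem_A

theorem V_cases {x : G} (hx : x ∈ S.V) : x = 1 ∨ x = S.w ∨ x = S.v ∨ x = S.v * S.w := by
  obtain ⟨σ, hσ, rfl⟩ := S.mem_V.1 hx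
  obtain ⟨τ, hτ, hτv⟩ := S.mem_V.1 S.v_mem
  have hmul : ∀ a b : Equiv.Perm (Fin 4), S.ι (a * b, 1) = S.ι (a, 1) * S.ι (b, 1) := fun a b => by
    rw [← map_mul]; simp
  rcases klein_four_elements S.sw τ σ S.sw_mem S.sw_ne hτ
    (fun h => S.v_ne_one (by rw [← hτv, h, Prod.mk_one_one, map_one]))
    (fun h => S.v_ne_w (by rw [← hτv, h]; rfl)) hσ with rfl | rfl | rfl | rfl
  · left; rw [Prod.mk_one_one, map_one]
  · right; left; rfl
  · right; right; left; exact hτv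
  · right; right; right; rw [hmul, hτv]; rfl

theorem fixed_of_moved_in_A {a : G} (ha : a ∈ S.V) (h : S.n * a * S.n⁻¹ ∈ S.A) :
    a = 1 ∨ a = S.w := by
  rcases S.V_cases ha with e | e | e | e
  · exact Or.inl e
  · exact Or.inr e
  · rw [e] at h; exact absurd h S.v'_not_A
  · exfalso
    subst e
    refine S.v'w_not_A ?_
    rwa [show S.n * (S.v * S.w) * S.n⁻¹ = S.n * S.v * S.n⁻¹ * (S.n * S.w * S.n⁻¹) by group,
      S.n_w] at h

/-- The model element of the moved involution. -/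
noncomputable def pv : Model48 := (S.exists_ι (S.DH S.v'_mem_D)).choose

theorem ι_pv : S.ι S.pv = S.v' := (S.exists_ι (S.DH S.v'_mem_D)).choose_spec

theorem pv_not_klein : S.pv.1 ∉ klein := fun h => S.v'_not_A <| by
  rw [← S.ι_pv]; exact S.ι_mem_A.2 h

theorem pv_sq : S.pv.1 * S.pv.1 = 1 := by
  have h : S.pv * S.pv = 1 := S.inj (by rw [map_mul, S.ι_pv, S.v'_sq, map_one])
  exact congrArg Prod.fst h

/-- The subgroup of order 8 generated by the two four-groups. -/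
noncomputable def B : Subgroup G := S.D ⊓ (chi S.pv).ker.map S.ι

theorem ι_mem_B {p : Model48} : S.ι p ∈ S.B ↔ S.ι p ∈ S.D ∧ chi S.pv p = 1 :=
  ⟨fun ⟨h1, q, hq, h⟩ => ⟨h1, S.inj h ▸ hq⟩, fun ⟨h1, h2⟩ => ⟨h1, p, h2, rfl⟩⟩

theorem B_le : S.B ≤ S.D := inf_le_left

theorem V_le_B : S.V ≤ S.B := by
  intro x hx
  obtain ⟨σ, hσ, rfl⟩ := S.mem_V.1 hx
  exact S.ι_mem_B.2 ⟨S.V_le_D hx, chi_klein _ hσ 1⟩

theorem v'_mem_B : S.v' ∈ S.B := by
  rw [← S.ι_pv]
  exact S.ι_mem_B.2 ⟨S.ι_pv ▸ S.v'_mem_D, chi_self S.pv_sq S.pv_not_klein⟩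

theorem z_not_B : S.z ∉ S.B := fun h => by
  have h2 := (S.ι_mem_B.1 h).2
  rw [chi_z] at h2
  exact absurd h2 (by decide)

theorem B_A {x : G} (hx : x ∈ S.B) (hA : x ∈ S.A) : x ∈ S.V := by
  obtain ⟨⟨σ, ε⟩, rfl⟩ := S.exists_ι (S.A_le hA)
  have h := (S.ι_mem_B.1 hx).2
  rw [chi_klein _ (S.ι_mem_A.1 hA)] at h
  exact S.ι_mem_V.2 ⟨S.ι_mem_A.1 hA, h⟩

theorem D_split {x : G} (hx : x ∈ S.D) : x ∈ S.B ∨ S.z * x ∈ S.B := by
  obtain ⟨p, rfl⟩ := S.exists_ι (S.DH hx)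
  rcases z2_cases (chi S.pv p) with h | h
  · exact Or.inl (S.ι_mem_B.2 ⟨hx, h⟩)
  · right
    have h2 : S.z * S.ι p ∈ S.D := mul_mem S.z_mem_D hx
    rw [z, ← map_mul] at h2 ⊢
    refine S.ι_mem_B.2 ⟨h2, ?_⟩
    rw [map_mul, chi_z, h]
    decide

theorem card_B : Nat.card S.B = 8 := by
  have hi : (S.B.subgroupOf S.D).index = 2 := by
    rw [index_eq_two_iff']
    refine ⟨⟨S.z, S.z_mem_D⟩, fun b => ?_⟩
    rw [mem_subgroupOf, mem_subgroupOf, Subgroup.coe_mul]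
    rcases S.D_split b.2 with h | h
    · exact Or.inr ⟨h, fun hz => S.z_not_B (by simpa using mul_mem hz (inv_mem h))⟩
    · exact Or.inl ⟨h, fun hb => S.z_not_B (by simpa using mul_mem h (inv_mem hb))⟩
  have h1 := (S.B.subgroupOf S.D).card_mul_index
  rw [Nat.card_congr (Subgroup.subgroupOfEquivOfLe S.B_le).toEquiv, hi, S.card_D] at h1
  omega

theorem B_involution {y : G} (hy : y ∈ S.B) (hy2 : y * y = 1) :
    y ∈ S.V ∨ y = S.v' ∨ y = S.v' * S.w := by
  by_cases hA : y ∈ S.A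
  · exact Or.inl (S.B_A hy hA)
  obtain ⟨p, rfl⟩ := S.exists_ι (S.DH (S.B_le hy))
  right
  have hp : p.1 * p.1 = 1 := by
    have h : p * p = 1 := S.inj (by rw [map_mul, hy2, map_one])
    exact congrArg Prod.fst h
  rcases outer_two S.pv.1 p.1 S.sw S.pv_sq S.pv_not_klein hp (fun h => hA (S.ι_mem_A.2 h))
    S.sw_mem S.sw_ne (S.sw_comm (S.ι_pv ▸ S.v'_mem_D)) (S.sw_comm (S.B_le hy)) with h | h
  · left
    rw [← S.ι_pv]
    exact congrArg S.ι (chi_ext S.pv (S.ι_mem_B.1 hy).2 (chi_self S.pv_sq S.pv_not_klein) h)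
  · right
    rw [← S.ι_pv, w, ← map_mul]
    refine congrArg S.ι (chi_ext S.pv (S.ι_mem_B.1 hy).2 ?_ h)
    rw [map_mul, chi_self S.pv_sq S.pv_not_klein, chi_klein _ S.sw_mem, mul_one]

theorem B_decomp {e : G} (he : e ∈ S.B) : e ∈ S.V ∨ ∃ a ∈ S.V, e = a * S.v' := by
  by_cases hA : e ∈ S.A
  · exact Or.inl (S.B_A he hA)
  right
  refine ⟨e * S.v', S.B_A (mul_mem he S.v'_mem_B) ?_, by rw [mul_assoc, S.v'_sq, mul_one]⟩
  have hidx : (S.A.subgroupOf S.D).index = 2 := by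
    have h1 := (S.A.subgroupOf S.D).card_mul_index
    rw [Nat.card_congr (Subgroup.subgroupOfEquivOfLe S.A_le_D).toEquiv, S.card_A, S.card_D] at h1
    omega
  exact mem_subgroupOf.1 ((mul_mem_iff_of_index_two hidx (a := ⟨e, S.B_le he⟩)
    (b := ⟨S.v', S.v'_mem_D⟩)).2 (iff_of_false (fun h => hA (mem_subgroupOf.1 h))
      (fun h => S.v'_not_A (mem_subgroupOf.1 h))))

theorem n_v'_mem : S.n * S.v' * S.n⁻¹ ∈ S.V := S.nn_normalizes S.H_le_normalizer_V S.v_mem

theorem n_B {e : G} (he : e ∈ S.B) : S.n * e * S.n⁻¹ ∈ S.B := by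
  have key : ∀ a ∈ S.V, S.n * a * S.n⁻¹ ∈ S.B := fun a ha => by
    rcases S.V_cases ha with e | e | e | e <;> subst e
    · simp [one_mem]
    · rw [S.n_w]; exact S.V_le_B S.w_mem_V
    · exact S.v'_mem_B
    · rw [show S.n * (S.v * S.w) * S.n⁻¹ = S.n * S.v * S.n⁻¹ * (S.n * S.w * S.n⁻¹) by group,
        S.n_w]
      exact mul_mem S.v'_mem_B (S.V_le_B S.w_mem_V)
  rcases S.B_decomp he with h | ⟨a, ha, rfl⟩
  · exact key e h
  · rw [show S.n * (a * S.v') * S.n⁻¹ = S.n * a * S.n⁻¹ * (S.n * S.v' * S.n⁻¹) by group]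
    exact mul_mem (key a ha) (S.V_le_B S.n_v'_mem)

theorem D_involution {x : G} (hx : x ∈ S.D) (hx2 : x * x = 1) :
    x ∈ S.A ∨ S.n⁻¹ * x * S.n ∈ S.A := by
  by_cases hA : x ∈ S.A
  · exact Or.inl hA
  right
  have hv : S.n⁻¹ * S.v' * S.n ∈ S.A := by
    rw [v', show S.n⁻¹ * (S.n * S.v * S.n⁻¹) * S.n = S.v by group]
    exact S.V_le_A S.v_mem
  have hvw : S.n⁻¹ * (S.v' * S.w) * S.n ∈ S.A := by
    rw [show S.n⁻¹ * (S.v' * S.w) * S.n = S.n⁻¹ * S.v' * S.n * (S.n⁻¹ * S.w * S.n) by group,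
      S.n_inv_w]
    exact mul_mem hv S.w_mem_A
  have key : ∀ y ∈ S.B, y * y = 1 → y ∉ S.A → S.n⁻¹ * y * S.n ∈ S.A := fun y hy hy2 hyA => by
    rcases S.B_involution hy hy2 with h | h | h
    · exact absurd (S.V_le_A h) hyA
    · rw [h]; exact hv
    · rw [h]; exact hvw
  rcases S.D_split hx with h | h
  · exact key x h hx2 hA
  · have h2 : S.z * x * (S.z * x) = 1 := by
      rw [← S.z_comm (S.DH hx), show x * S.z * (x * S.z) = x * (S.z * x) * S.z by group,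
        ← S.z_comm (S.DH hx), show x * (x * S.z) * S.z = x * x * (S.z * S.z) by group, hx2,
        S.z_mul_self, one_mul]
    have := key _ h h2 fun hzA => hA (by simpa using mul_mem (inv_mem S.z_mem_A) hzA)
    have h3 : S.n⁻¹ * x * S.n = (S.n⁻¹ * S.z * S.n)⁻¹ * (S.n⁻¹ * (S.z * x) * S.n) := by group
    rw [h3, S.n_inv_z]
    exact mul_mem (inv_mem (mul_mem S.z_mem_A S.w_mem_A)) this

theorem central_of_both {x : G} (hA : x ∈ S.A) (hA' : S.n⁻¹ * x * S.n ∈ S.A) :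
    ∀ d ∈ S.D, x * d = d * x := by
  have hc : x * S.v' = S.v' * x := by
    have := S.A_comm hA' (S.V_le_A S.v_mem)
    calc x * S.v' = S.n * (S.n⁻¹ * x * S.n * S.v) * S.n⁻¹ := by rw [v']; group
      _ = S.n * (S.v * (S.n⁻¹ * x * S.n)) * S.n⁻¹ := by rw [this]
      _ = S.v' * x := by rw [v']; group
  obtain ⟨⟨σ, ε⟩, rfl⟩ := S.exists_ι (S.A_le hA)
  rw [← S.ι_pv, ← map_mul, ← map_mul] at hc
  have h1 : σ * S.pv.1 = S.pv.1 * σ := congrArg Prod.fst (S.inj hc)
  intro d hd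
  have hsplit : S.ι (σ, ε) = S.ι (σ, 1) * S.ι (1, ε) := by rw [← map_mul]; simp
  have hε : S.ι (1, ε) * d = d * S.ι (1, ε) := by
    rcases z2_cases ε with rfl | rfl
    · rw [Prod.mk_one_one, map_one, one_mul, mul_one]
    · exact (S.z_comm (S.DH hd)).symm
  have hσ : S.ι (σ, 1) * d = d * S.ι (σ, 1) := by
    rcases klein_fixed_of_outer S.sw S.pv.1 σ S.sw_mem S.sw_ne S.pv_not_klein
      (S.sw_comm (S.ι_pv ▸ S.v'_mem_D)) (S.ι_mem_A.1 hA) h1 with rfl | rfl
    · rw [Prod.mk_one_one, map_one, one_mul, mul_one]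
    · exact S.w_comm hd
  rw [hsplit, mul_assoc, hε, ← mul_assoc, hσ, mul_assoc]

/-- The extension of `D` by the swap. -/
def R : Subgroup G := adjoin S.D S.n S.nD S.n_sq

theorem n_not_D : S.n ∉ S.D := fun h => S.nH (S.DH h)

theorem card_R : Nat.card S.R = 32 := by
  rw [R, card_adjoin _ _ _ _ S.n_not_D, S.card_D]

theorem D_le_R : S.D ≤ S.R := le_adjoin _ _ _ _

theorem outside {r : G} (hr : r ∈ S.R) (hrD : r ∉ S.D) : S.n * r ∈ S.D :=
  (mem_adjoin.1 hr).resolve_left hrD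

theorem outside_A {r x : G} (hr : S.n * r ∈ S.D) (hx : x ∈ S.A) :
    S.n⁻¹ * (r * x * r⁻¹) * S.n ∈ S.A := by
  have h1 : S.n * r * x * (S.n * r)⁻¹ ∈ S.A :=
    (mem_normalizer_iff.1 (S.normalizer_A.ge (S.DH hr)) x).1 hx
  have h2 := S.inv_conj_normalizes S.normalizer_A.ge h1
  rwa [show S.n⁻¹ * (S.n⁻¹ * (S.n * r * x * (S.n * r)⁻¹) * S.n) * S.n =
    S.n⁻¹ * (r * x * r⁻¹) * S.n by group] at h2

theorem outside_A' {r x : G} (hr : S.n * r ∈ S.D) (hx : S.n⁻¹ * x * S.n ∈ S.A) :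
    r * x * r⁻¹ ∈ S.A := by
  have h1 := (mem_normalizer_iff.1 (S.normalizer_A.ge (S.DH (S.conj_inv_mem_D hr))) _).1 hx
  rwa [show S.n⁻¹ * (S.n * r) * S.n * (S.n⁻¹ * x * S.n) * (S.n⁻¹ * (S.n * r) * S.n)⁻¹ =
    r * x * r⁻¹ by group] at h1

theorem outside_V {r a : G} (hr : S.n * r ∈ S.D) (ha : a ∈ S.V) :
    ∃ b ∈ S.V, r * a * r⁻¹ = S.n * b * S.n⁻¹ := by
  have h1 : S.n * r * a * (S.n * r)⁻¹ ∈ S.V :=
    (mem_normalizer_iff.1 (S.H_le_normalizer_V (S.DH hr)) a).1 ha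
  exact ⟨_, S.inv_conj_normalizes S.H_le_normalizer_V h1, by group⟩

theorem outside_w {r : G} (hr : S.n * r ∈ S.D) : r * S.w * r⁻¹ = S.w := by
  calc r * S.w * r⁻¹ = S.n⁻¹ * (S.n * r * S.w) * (S.n * r)⁻¹ * S.n := by group
    _ = S.n⁻¹ * (S.w * (S.n * r)) * (S.n * r)⁻¹ * S.n := by rw [← S.w_comm hr]
    _ = S.n⁻¹ * S.w * S.n := by group
    _ = S.w := S.n_inv_w

theorem outside_z {r : G} (hr : S.n * r ∈ S.D) : r * S.z * r⁻¹ = S.z * S.w := by
  calc r * S.z * r⁻¹ = S.n⁻¹ * (S.n * r * S.z) * (S.n * r)⁻¹ * S.n := by group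
    _ = S.n⁻¹ * (S.z * (S.n * r)) * (S.n * r)⁻¹ * S.n := by rw [S.z_comm (S.DH hr)]
    _ = S.n⁻¹ * S.z * S.n := by group
    _ = S.z * S.w := S.n_inv_z

theorem not_dvd_64 (S : Swap H) : ¬ 64 ∣ Nat.card G := by
  intro h64
  haveI : Fact (Nat.Prime 2) := ⟨Nat.prime_two⟩
  obtain ⟨K, hK, hRK⟩ := Sylow.exists_subgroup_card_pow_succ (p := 2) (n := 5) (G := G)
    (by norm_num; exact h64) (H := S.R) (by rw [S.card_R]; norm_num)
  have hKp : IsPGroup 2 K := isPGroup_two_of_card hK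
  have hidx : (S.R.subgroupOf K).index = 2 := by
    have h1 := (S.R.subgroupOf K).card_mul_index
    rw [Nat.card_congr (Subgroup.subgroupOfEquivOfLe hRK).toEquiv, S.card_R, hK] at h1
    norm_num at h1
    omega
  haveI := Subgroup.normal_of_index_eq_two hidx
  obtain ⟨⟨m, hmK⟩, hm⟩ : ∃ m : K, m ∉ S.R.subgroupOf K := by
    by_contra! h
    rw [show S.R.subgroupOf K = ⊤ from top_unique fun x _ => h x, index_top] at hidx
    omega
  rw [mem_subgroupOf] at hm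
  have hmR : ∀ x ∈ S.R, m * x * m⁻¹ ∈ S.R := fun x hx => mem_subgroupOf.1
    ((inferInstance : (S.R.subgroupOf K).Normal).conj_mem ⟨x, hRK hx⟩ (mem_subgroupOf.2 hx)
      ⟨m, hmK⟩)
  set u := m * S.z * m⁻¹ with hu
  have hu2 : u * u = 1 := by
    rw [hu, show m * S.z * m⁻¹ * (m * S.z * m⁻¹) = m * (S.z * S.z) * m⁻¹ by group, S.z_mul_self,
      mul_one, mul_inv_cancel]
  have huR : u ∈ S.R := hmR _ (S.D_le_R S.z_mem_D)
  have hcu : ∀ d ∈ S.D, m * d * m⁻¹ * u = u * (m * d * m⁻¹) := fun d hd => by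
    rw [hu, show m * d * m⁻¹ * (m * S.z * m⁻¹) = m * (d * S.z) * m⁻¹ by group,
      S.z_comm (S.DH hd)]
    group
  by_cases huD : u ∈ S.D
  · by_cases hcen : ∀ d ∈ S.D, d * u = u * d
    · rcases S.central_D huD hcen with h | h | h | h
      · exact S.z_ne_one (conj_eq_one_iff.1 h)
      · exact S.not_conj_w m h
      · exact hm (S.D_le_R (S.mem_D_of_two_group hKp (S.D_le_R.trans hRK) hmK
          (S.mem_H_of_comm h)))
      · have hnm : S.n * m ∈ H := S.mem_H_of_comm (by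
          calc S.n * m * S.z * (S.n * m)⁻¹ = S.n * (m * S.z * m⁻¹) * S.n⁻¹ := by group
            _ = S.n * (S.z * S.w) * S.n⁻¹ := by rw [← hu, h]
            _ = S.n * S.z * S.n⁻¹ * (S.n * S.w * S.n⁻¹) := by group
            _ = S.z := by rw [S.n_z, S.n_w, mul_assoc, S.w_mul_self, mul_one])
        have hD : S.n * m ∈ S.D := S.mem_D_of_two_group hKp (S.D_le_R.trans hRK)
          (mul_mem (hRK (self_mem_adjoin _ _ _ _)) hmK) hnm
        exact hm (Or.inr hD)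
    · obtain ⟨d, hd, hrD⟩ : ∃ d ∈ S.D, m * d * m⁻¹ ∉ S.D := by
        by_contra! h
        refine hcen fun d hd => ?_
        have h' := (mem_normalizer_iff.1 (mem_normalizer_of_forall h) (m⁻¹ * d * m)).2
          (by rw [show m * (m⁻¹ * d * m) * m⁻¹ = d by group]; exact hd)
        have := hcu _ h'
        rwa [show m * (m⁻¹ * d * m) * m⁻¹ = d by group] at this
      have hr := S.outside (hmR _ (S.D_le_R hd)) hrD
      have hfix : m * d * m⁻¹ * u * (m * d * m⁻¹)⁻¹ = u := by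
        rw [hcu d hd]; group
      apply hcen
      rcases S.D_involution huD hu2 with h | h
      · have h' := S.outside_A hr h
        rw [hfix] at h'
        exact fun e he => (S.central_of_both h h' e he).symm
      · have h' := S.outside_A' hr h
        rw [hfix] at h'
        exact fun e he => (S.central_of_both h' h e he).symm
  · have hn := S.outside huR huD
    have huz := S.outside_z hn
    let C : Subgroup G := S.D ⊓ centralizer ({u} : Set G)
    have hzC : S.z ∉ C := fun h => by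
      have h1 : u * S.z = S.z * u := mem_centralizer_iff.1 h.2 u rfl
      rw [h1, mul_inv_cancel_right] at huz
      exact S.w_ne_one (left_eq_mul.1 huz)
    have hEle : S.D.map (MulAut.conj m).toMonoidHom ≤ S.R := by
      rintro _ ⟨d, hd, rfl⟩
      simpa using hmR d (S.D_le_R hd)
    have hC : (C.subgroupOf S.D).index = 2 := by
      set E := S.D.map (MulAut.conj m).toMonoidHom with hE
      have hE16 : Nat.card E = 16 := by
        rw [hE, card_map_of_injective (MulAut.conj m).injective, S.card_D]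
      have hDR : (S.D.subgroupOf S.R).index = 2 := by
        have h1 := (S.D.subgroupOf S.R).card_mul_index
        rw [Nat.card_congr (Subgroup.subgroupOfEquivOfLe S.D_le_R).toEquiv, S.card_D,
          S.card_R] at h1
        omega
      haveI := Subgroup.normal_of_index_eq_two hDR
      have h2 : S.D.relIndex E ∣ 2 := by
        have h := relIndex_dvd_index_of_normal (H := S.D.subgroupOf S.R) (K := E.subgroupOf S.R)
        rwa [hDR, Subgroup.relIndex_subgroupOf hEle] at h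
      have hDE : S.D ⊓ E ≤ C := le_inf inf_le_left fun x hx => by
        obtain ⟨d, hd, rfl⟩ := hx.2
        refine mem_centralizer_iff.2 fun y hy => ?_
        rw [Set.mem_singleton_iff.1 hy]
        simpa using (hcu d hd).symm
      have hc : 8 ≤ Nat.card ↥(S.D ⊓ E) := by
        have h3 := (S.D.subgroupOf E).card_mul_index
        rw [hE16, show S.D.subgroupOf E = (S.D ⊓ E).subgroupOf E from (inf_subgroupOf_right _ _).symm,
          Nat.card_congr (Subgroup.subgroupOfEquivOfLe (inf_le_right : S.D ⊓ E ≤ E)).toEquiv,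
          ← Subgroup.relIndex, Subgroup.inf_relIndex_right] at h3
        rcases (Nat.dvd_prime Nat.prime_two).1 h2 with h | h <;> rw [h] at h3 <;> omega
      have hC8 : 8 ≤ Nat.card C := hc.trans (Subgroup.card_le_of_le hDE)
      have h4 := (C.subgroupOf S.D).card_mul_index
      rw [Nat.card_congr (Subgroup.subgroupOfEquivOfLe (inf_le_left : C ≤ S.D)).toEquiv,
        S.card_D] at h4
      have hne : (C.subgroupOf S.D).index ≠ 1 := fun h => hzC (mem_subgroupOf.1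
        ((index_eq_one.1 h).ge (mem_top (⟨S.z, S.z_mem_D⟩ : S.D))))
      have hpos : (C.subgroupOf S.D).index ≠ 0 := Subgroup.index_ne_zero_of_finite
      have : Nat.card C * (C.subgroupOf S.D).index ≥ 8 * (C.subgroupOf S.D).index :=
        Nat.mul_le_mul_right _ hC8
      simp only [C] at this hC8 h4 hne hpos ⊢
      omega
    have key : ∀ x ∈ C, u * x * u⁻¹ = x := fun x hx => by
      rw [mem_centralizer_iff.1 hx.2 u rfl, mul_inv_cancel_right]
    obtain ⟨b, hb, hbv⟩ := S.outside_V hn S.v_mem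
    have hcase : S.v ∈ C ∨ S.z * S.v ∈ C := by
      by_cases h : S.v ∈ C
      · exact Or.inl h
      · exact Or.inr (mem_subgroupOf.1 ((mul_mem_iff_of_index_two hC (a := ⟨S.z, S.z_mem_D⟩)
          (b := ⟨S.v, S.V_le_D S.v_mem⟩)).2 (iff_of_false (fun h' => hzC (mem_subgroupOf.1 h'))
            (fun h' => h (mem_subgroupOf.1 h')))))
    have hbmem : S.n * b * S.n⁻¹ = S.v ∨ S.n * b * S.n⁻¹ = S.w * S.v := by
      rcases hcase with h | h
      · exact Or.inl (hbv.symm.trans (key _ h))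
      · right
        have h1 := key _ h
        rw [show u * (S.z * S.v) * u⁻¹ = u * S.z * u⁻¹ * (u * S.v * u⁻¹) by group, huz, hbv,
          mul_assoc, mul_left_cancel_iff, ← eq_inv_mul_iff_mul_eq,
          inv_eq_of_mul_eq_one_left S.w_mul_self] at h1
        exact h1
    have hA : S.n * b * S.n⁻¹ ∈ S.A := by
      rcases hbmem with h | h <;> rw [h]
      · exact S.V_le_A S.v_mem
      · exact mul_mem S.w_mem_A (S.V_le_A S.v_mem)
    have hb' : S.n * b * S.n⁻¹ = b := by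
      rcases S.fixed_of_moved_in_A hb hA with h | h <;> subst h
      · simp
      · exact S.n_w
    rw [hb'] at hbmem
    have hv : S.v = 1 ∨ S.v = S.w := by
      have hA1 : S.n * S.v * S.n⁻¹ ∈ S.A := by
        rcases hbmem with h | h
        · rw [← h, hb', h]; exact S.V_le_A S.v_mem
        · have hv : S.v = S.w * b := by rw [h, ← mul_assoc, S.w_mul_self, one_mul]
          rw [hv, show S.n * (S.w * b) * S.n⁻¹ = S.n * S.w * S.n⁻¹ * (S.n * b * S.n⁻¹) by group,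
            S.n_w, hb', ← hv]
          exact S.V_le_A S.v_mem
      exact S.fixed_of_moved_in_A S.v_mem hA1
    exact hv.elim S.v_ne_one S.v_ne_w

theorem v'_conj_v : S.v' * S.v * S.v'⁻¹ = S.v * S.w := by
  have h := (S.commutator_D S.v'_mem_D (S.V_le_D S.v_mem)).resolve_left fun h => S.v'_not_A <| by
    refine S.mem_A_of_centralizes fun a ha => ?_
    have hc : S.v * S.v' = S.v' * S.v := by
      rw [mul_inv_eq_one, mul_inv_eq_iff_eq_mul] at h
      exact h.symm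
    rcases S.V_cases ha with e | e | e | e <;> subst e
    · simp
    · exact S.w_comm S.v'_mem_D
    · exact hc
    · rw [mul_assoc, S.w_comm S.v'_mem_D, ← mul_assoc, hc, mul_assoc]
  rw [mul_inv_eq_iff_eq_mul] at h
  rw [h, S.w_comm (S.V_le_D S.v_mem)]

theorem n_sq_B : S.n * S.n ∈ S.B := by
  refine (S.D_split S.n_sq).elim id fun he => ?_
  exfalso
  set e := S.z * (S.n * S.n) with hedef
  have hne : S.n * e * S.n⁻¹ = S.w * e := by
    rw [hedef, show S.n * (S.z * (S.n * S.n)) * S.n⁻¹ = S.n * S.z * S.n⁻¹ * (S.n * S.n) by group,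
      S.n_z, ← S.w_comm S.z_mem_D, mul_assoc]
  have fin : S.n * e * S.n⁻¹ = e → False := fun h =>
    S.w_ne_one (right_eq_mul.1 (h.symm.trans hne))
  rcases S.B_decomp he with hV | ⟨a, ha, hea⟩
  · refine fin ?_
    rcases S.fixed_of_moved_in_A hV (hne ▸ mul_mem S.w_mem_A (S.V_le_A hV)) with h | h
    · rw [h]; simp
    · rw [h]; exact S.n_w
  · have hv'c : S.n * S.v' * S.n⁻¹ = e * S.v * e⁻¹ := by
      have hnn : S.n * S.n = S.z * e := by rw [hedef, ← mul_assoc, S.z_mul_self, one_mul]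
      rw [v', show S.n * (S.n * S.v * S.n⁻¹) * S.n⁻¹ = S.n * S.n * S.v * (S.n * S.n)⁻¹ by group,
        hnn, show S.z * e * S.v * (S.z * e)⁻¹ = S.z * (e * S.v * e⁻¹) * S.z⁻¹ by group,
        ← S.z_comm (mul_mem (mul_mem (S.DH (S.B_le he)) (S.V_le S.v_mem))
          (inv_mem (S.DH (S.B_le he)))), mul_inv_cancel_right]
    have hvw : S.n * S.v' * S.n⁻¹ = S.v * S.w := by
      rw [hv'c, hea, show a * S.v' * S.v * (a * S.v')⁻¹ = a * (S.v' * S.v * S.v'⁻¹) * a⁻¹ by group,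
        S.v'_conj_v, S.A_comm (S.V_le_A ha) (mul_mem (S.V_le_A S.v_mem) S.w_mem_A),
        mul_inv_cancel_right]
    have hn : S.n * e * S.n⁻¹ = S.n * a * S.n⁻¹ * (S.v * S.w) := by
      rw [hea, ← hvw]; group
    have hflip : S.v' * S.v = S.v * S.w * S.v' := mul_inv_eq_iff_eq_mul.1 S.v'_conj_v
    rcases S.V_cases ha with h | h | h | h <;> subst h
    · refine S.v'w_not_A ?_
      have h1 : S.w * e ∈ S.A := by
        rw [← hne, hn]; simpa using mul_mem (S.V_le_A S.v_mem) S.w_mem_A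
      rwa [hea, one_mul, S.w_comm S.v'_mem_D] at h1
    · refine S.v'_not_A ?_
      have h1 : S.w * e ∈ S.A := by
        rw [← hne, hn, S.n_w]
        exact mul_mem S.w_mem_A (mul_mem (S.V_le_A S.v_mem) S.w_mem_A)
      rwa [hea, ← mul_assoc, S.w_mul_self, one_mul] at h1
    · refine fin ?_
      rw [hn, show S.n * S.v * S.n⁻¹ = S.v' from rfl, ← mul_assoc, hflip, hea, mul_assoc,
        ← S.w_comm S.v'_mem_D, ← mul_assoc, mul_assoc S.v, S.w_mul_self, mul_one]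
    · refine fin ?_
      rw [hn, show S.n * (S.v * S.w) * S.n⁻¹ = S.v' * (S.n * S.w * S.n⁻¹) by rw [v']; group,
        S.n_w, S.w_comm (S.V_le_D S.v_mem) |>.symm, mul_assoc, ← mul_assoc S.w S.w, S.w_mul_self,
        one_mul, hflip, hea]

theorem nz_B {e : G} (he : e ∈ S.B) : S.n * S.z * e * (S.n * S.z)⁻¹ ∈ S.B := by
  rw [show S.n * S.z * e * (S.n * S.z)⁻¹ = S.n * (S.z * e * S.z⁻¹) * S.n⁻¹ by group,
    ← S.z_comm (S.DH (S.B_le he)), mul_inv_cancel_right]
  exact S.n_B he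

theorem nz_sq_B : S.n * S.z * (S.n * S.z) ∈ S.B := by
  rw [show S.n * S.z * (S.n * S.z) = S.n * S.z * S.n⁻¹ * (S.n * S.n * S.z) by group, S.n_z,
    S.z_comm (S.DH S.n_sq), show S.z * S.w * (S.z * (S.n * S.n)) = S.z * (S.w * S.z) * (S.n * S.n)
      by group, S.w_comm S.z_mem_D, ← mul_assoc S.z, S.z_mul_self, one_mul]
  exact mul_mem (S.V_le_B S.w_mem_V) S.n_sq_B

theorem not_two_involutions {x₁ x₂ : G} (h1 : S.n * x₁ ∈ S.B) (h1' : x₁ * x₁ = 1)
    (h2 : S.n * S.z * x₂ ∈ S.B) (h2' : x₂ * x₂ = 1) : False := by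
  set e := S.z * x₁ * x₂ with hedef
  have hx1 := S.B_le h1
  have he : e ∈ S.B := by
    have hb : S.z * (S.n * x₁) * S.z⁻¹ = S.n * x₁ := by
      rw [← S.z_comm (S.DH hx1), mul_inv_cancel_right]
    have h3 : e = S.z * (S.n⁻¹ * S.z * S.n) * (S.n⁻¹ * (S.n * x₁) * S.n) *
        ((S.n * S.n)⁻¹ * (S.n * S.z * x₂)) := by
      rw [hedef]
      calc S.z * x₁ * x₂ = S.z * S.n⁻¹ * (S.n * x₁) * S.z⁻¹ * S.n⁻¹ * (S.n * S.z * x₂) := by group
        _ = S.z * S.n⁻¹ * (S.z * (S.n * x₁) * S.z⁻¹) * S.z⁻¹ * S.n⁻¹ * (S.n * S.z * x₂) := by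
          rw [hb]
        _ = S.z * S.n⁻¹ * S.z * (S.n * x₁) * (S.z * S.z)⁻¹ * S.n⁻¹ * (S.n * S.z * x₂) := by group
        _ = _ := by rw [S.z_mul_self]; group
    have hninv : S.n⁻¹ * (S.n * x₁) * S.n ∈ S.B := by
      have h4 : S.n * (S.n⁻¹ * (S.n * x₁) * S.n) * S.n⁻¹ = S.n * x₁ := by group
      have hnorm : S.n ∈ normalizer (S.B : Set G) := mem_normalizer_of_forall fun x => S.n_B
      exact (mem_normalizer_iff.1 hnorm _).2 (by rw [h4]; exact h1)
    rw [h3, S.n_inv_z, ← mul_assoc S.z, S.z_mul_self, one_mul]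
    exact mul_mem (mul_mem (S.V_le_B S.w_mem_V) hninv) (mul_mem (inv_mem S.n_sq_B) h2)
  have hinv : x₁⁻¹ = x₁ := inv_eq_of_mul_eq_one_left h1'
  have hce : x₁ * e * x₁⁻¹ ∈ S.D := by
    have hcD : x₁ ∈ normalizer (S.D : Set G) := by
      rw [show x₁ = S.n⁻¹ * (S.n * x₁) by group]
      exact mul_mem (inv_mem S.nD) (Subgroup.le_normalizer hx1)
    exact (mem_normalizer_iff.1 hcD e).1 (S.B_le he)
  have hkey : x₁ * e * x₁⁻¹ = S.w * e⁻¹ := by
    have hx2 : x₂ = x₁ * S.z * e := by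
      rw [hedef, show x₁ * S.z * (S.z * x₁ * x₂) = x₁ * (S.z * S.z) * x₁ * x₂ by group,
        S.z_mul_self, mul_one, h1', one_mul]
    have hzz := S.z_comm (S.DH hce)
    have h5 : S.w * (x₁ * e * x₁⁻¹) * e = 1 := by
      calc S.w * (x₁ * e * x₁⁻¹) * e = S.z * S.z * S.w * (x₁ * e * x₁⁻¹) * e := by
            rw [S.z_mul_self, one_mul]
        _ = S.z * S.w * S.z * (x₁ * e * x₁⁻¹) * e := by
            rw [show S.z * S.z * S.w = S.z * S.w * S.z by
              rw [mul_assoc, mul_assoc, S.w_comm S.z_mem_D]]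
        _ = S.z * S.w * (x₁ * e * x₁⁻¹ * S.z) * e := by rw [hzz]; group
        _ = x₁ * S.z * x₁⁻¹ * (x₁ * e * x₁⁻¹ * S.z) * e := by rw [S.outside_z hx1]
        _ = x₁ * S.z * e * (x₁⁻¹ * S.z * e) := by group
        _ = 1 := by rw [hinv, ← hx2, h2']
    have h6 := mul_eq_one_iff_eq_inv.1 h5
    rw [← h6, ← mul_assoc S.w, S.w_mul_self, one_mul]
  have hA' : ∀ a ∈ S.V, x₁ * a * x₁⁻¹ ∈ S.A → a = 1 ∨ a = S.w := fun a ha h => by
    obtain ⟨b, hb, hab⟩ := S.outside_V hx1 ha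
    rw [hab] at h
    have hbw : b = 1 ∨ b = S.w := S.fixed_of_moved_in_A hb h
    have hb' : x₁ * b * x₁⁻¹ = b := by
      rcases hbw with h | h <;> subst h
      · simp
      · exact S.outside_w hx1
    have hfix : S.n * b * S.n⁻¹ = b := by
      rcases hbw with h | h <;> subst h
      · simp
      · exact S.n_w
    rw [hfix] at hab
    have : a = b := by
      apply mul_left_cancel (a := x₁)
      apply mul_right_cancel (b := x₁⁻¹)
      rw [hab, hb']
    rw [this]; exact hbw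
  rcases S.B_decomp he with hV | ⟨a, ha, hea⟩
  · have hfix : x₁ * e * x₁⁻¹ = e := by
      rcases hA' e hV (hkey ▸ mul_mem S.w_mem_A (inv_mem (S.V_le_A hV))) with h | h
      · rw [h]; simp
      · rw [h]; exact S.outside_w hx1
    rw [hfix, inv_eq_of_mul_eq_one_left (S.V_sq hV)] at hkey
    exact S.w_ne_one (right_eq_mul.1 hkey)
  obtain ⟨b, hb, hbv⟩ := S.outside_V hx1 S.v_mem
  set t := x₁ * S.v * x₁⁻¹ with ht
  have htt : t * t = 1 := by
    rw [ht, show x₁ * S.v * x₁⁻¹ * (x₁ * S.v * x₁⁻¹) = x₁ * (S.v * S.v) * x₁⁻¹ by group,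
      S.V_sq S.v_mem, mul_one, mul_inv_cancel]
  have htv' : ∃ ε, (ε = 1 ∨ ε = S.w) ∧ S.v' = t * ε := by
    rcases S.V_cases hb with h | h | h | h <;> subst h
    · exact absurd (hA' S.v S.v_mem (by rw [← ht, hbv]; simp [one_mem]))
        (not_or.2 ⟨S.v_ne_one, S.v_ne_w⟩)
    · exact absurd (hA' S.v S.v_mem (by rw [← ht, hbv, S.n_w]; exact S.w_mem_A))
        (not_or.2 ⟨S.v_ne_one, S.v_ne_w⟩)
    · exact ⟨1, Or.inl rfl, by rw [mul_one, hbv]; rfl⟩
    · refine ⟨S.w, Or.inr rfl, ?_⟩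
      rw [hbv, show S.n * (S.v * S.w) * S.n⁻¹ = S.v' * (S.n * S.w * S.n⁻¹) by rw [v']; group,
        S.n_w, mul_assoc, S.w_mul_self, mul_one]
  obtain ⟨ε, hε, hεt⟩ := htv'
  have htD : t ∈ S.D := by rw [hbv]; exact S.conj_mem_D (S.V_le_D hb)
  have conjB : ∀ δ, δ = 1 ∨ δ = S.w → x₁ * δ * x₁⁻¹ = δ ∧ δ * δ = 1 ∧ ∀ d ∈ S.D, δ * d = d * δ := by
    rintro δ (rfl | rfl)
    · simp
    · exact ⟨S.outside_w hx1, S.w_mul_self, fun d => S.w_comm⟩
  have main : ∀ δ, δ = 1 ∨ δ = S.w → e = S.v * δ * (t * ε) → False := by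
    intro δ hδ hee
    obtain ⟨cδ, sδ, zδ⟩ := conjB δ hδ
    obtain ⟨cε, sε, zε⟩ := conjB ε hε
    have hct : x₁ * t * x₁⁻¹ = S.v := by
      rw [ht, hinv, show x₁ * (x₁ * S.v * x₁) * x₁ = (x₁ * x₁) * S.v * (x₁ * x₁) by group, h1']
      simp
    have h7 : x₁ * e * x₁⁻¹ = t * δ * (S.v * ε) := by
      rw [hee, show x₁ * (S.v * δ * (t * ε)) * x₁⁻¹ =
        x₁ * S.v * x₁⁻¹ * (x₁ * δ * x₁⁻¹) * (x₁ * t * x₁⁻¹ * (x₁ * ε * x₁⁻¹)) by group,
        cδ, cε, hct, ← ht]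
    have h8 : e⁻¹ = t * δ * (S.v * ε) := by
      apply inv_eq_of_mul_eq_one_right
      have hδD : δ ∈ S.D := by
        rcases hδ with h | h <;> subst h
        exacts [one_mem _, S.w_mem_D]
      have h10 : t * ε * t = ε := by rw [← zε t htD, mul_assoc, htt, mul_one]
      have h11 : δ * ε * δ = ε := by rw [← zε δ hδD, mul_assoc, sδ, mul_one]
      calc e * (t * δ * (S.v * ε)) = S.v * δ * (t * ε) * (t * δ * (S.v * ε)) := by rw [hee]
        _ = S.v * (δ * (t * ε * t) * δ) * S.v * ε := by group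
        _ = S.v * ε * S.v * ε := by rw [h10, h11]
        _ = 1 := by rw [← zε S.v (S.V_le_D S.v_mem), mul_assoc ε S.v S.v, S.V_sq S.v_mem,
          mul_one, sε]
    rw [h7, ← h8] at hkey
    exact S.w_ne_one (right_eq_mul.1 hkey)
  rw [hεt] at hea
  rcases S.V_cases ha with h | h | h | h <;> subst h
  · refine S.v'_not_A ?_
    have h9 : x₁ * e * x₁⁻¹ ∈ S.A := by
      rw [hea, one_mul, ← hεt]
      exact S.outside_A' hx1 (by rw [v']; simpa [mul_assoc] using S.V_le_A S.v_mem)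
    rw [hkey, hea, one_mul, ← hεt, inv_eq_of_mul_eq_one_left S.v'_sq] at h9
    simpa [← mul_assoc, S.w_mul_self] using mul_mem S.w_mem_A h9
  · refine S.v'_not_A ?_
    have h9 : x₁ * e * x₁⁻¹ ∈ S.A := by
      rw [hea, ← hεt, show x₁ * (S.w * S.v') * x₁⁻¹ = x₁ * S.w * x₁⁻¹ * (x₁ * S.v' * x₁⁻¹) by group,
        S.outside_w hx1]
      exact mul_mem S.w_mem_A
        (S.outside_A' hx1 (by rw [v']; simpa [mul_assoc] using S.V_le_A S.v_mem))
    rw [hkey, hea, ← hεt, mul_inv_rev, inv_eq_of_mul_eq_one_left S.v'_sq,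
      inv_eq_of_mul_eq_one_left S.w_mul_self, ← S.w_comm S.v'_mem_D, ← mul_assoc, S.w_mul_self,
      one_mul] at h9
    exact h9
  · exact main 1 (Or.inl rfl) (by rw [hea, mul_one])
  · exact main S.w (Or.inr rfl) hea

/-- An element of `R ∖ D` normalising `B`, with square in `B`, whose coset has no involution. -/
theorem exists_clean : ∃ c ∈ S.R, c ∉ S.D ∧ c * c ∈ S.B ∧ (∀ e ∈ S.B, c * e * c⁻¹ ∈ S.B) ∧
    ∀ x, c * x ∈ S.B → x * x ≠ 1 := by
  by_cases h : ∀ x, S.n * x ∈ S.B → x * x ≠ 1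
  · exact ⟨S.n, self_mem_adjoin _ _ _ _, S.n_not_D, S.n_sq_B, fun e => S.n_B, h⟩
  push Not at h
  obtain ⟨x₁, h1, h1'⟩ := h
  exact ⟨S.n * S.z, mul_mem (self_mem_adjoin _ _ _ _) (S.D_le_R S.z_mem_D),
    fun h => S.n_not_D (by simpa using mul_mem h (inv_mem S.z_mem_D)), S.nz_sq_B,
    fun e => S.nz_B, fun x hx hx' => S.not_two_involutions h1 h1' hx hx'⟩

end Swap

end CfsgLib.SubdegreeThree
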