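import Cfsg.Agent.Lib.SubdegreeThree.Common

/-!
A primitive group with a point stabilizer `S₄` and a suborbit of length three is simple, with
dihedral or semidihedral Sylow 2-subgroups of order at least 16.
-/

set_option autoImplicit false
set_option linter.style.haveILetI false
set_option linter.unusedVariables false

open Subgroup

namespace CfsgLib.SubdegreeThree

variable {G : Type*} [Group G] [Finite G]

/-- Structure in the case of point stabilizer `S₄`. -/
theorem four_structure (hns : ¬ Group.IsSolvable G) (H : Subgroup G) (hmax : IsCoatom H)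
    (hcore : H.normalCore = ⊥) (g : G) (hgH : g ∉ H)
    (hrel : (H ⊓ H.map (MulAut.conj g).toMonoidHom).relIndex H = 3)
    (hH : Nonempty (H ≃* Equiv.Perm (Fin 4))) :
    IsSimpleGroup G ∧ ∃ (V : Subgroup G) (P : Sylow 2 G), IsKleinFour V ∧
      centralizer (V : Set G) = V ∧ normalizer (V : Set G) = H ∧ Nat.card H = 24 ∧
      16 ∣ Nat.card (P : Subgroup G) ∧
      ((∃ k : ℕ, Nonempty ((P : Subgroup G) ≃* DihedralGroup (2 ^ (k + 2)))) ∨
        Cfsg.IsQuasiDihedral (P : Subgroup G)) := by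
  classical
  haveI : Fact (Nat.Prime 2) := ⟨Nat.prime_two⟩
  obtain ⟨e⟩ := hH
  have hsolH : Group.IsSolvable H := by
    haveI := CfsgLib.SL2.Dickson.isSolvable_perm_four
    exact Group.isSolvable_of_isSolvable_injective (f := e.toMonoidHom) e.injective
  have hH24 : Nat.card H = 24 := (Nat.card_congr e.toEquiv).trans card_perm_four
  let ι : Equiv.Perm (Fin 4) →* G := H.subtype.comp e.symm.toMonoidHom
  have ιinj : Function.Injective ι := H.subtype_injective.comp e.symm.injective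
  have ιH : ∀ σ, ι σ ∈ H := fun σ => (e.symm σ).2
  have ιsurj : ∀ x ∈ H, ∃ σ, ι σ = x := fun x hx => ⟨e ⟨x, hx⟩, by simp [ι]⟩
  -- the four-group
  set V : Subgroup G := klein.map ι
  have hV4 : Nat.card V = 4 := by rw [card_map_of_injective ιinj, card_klein]
  have hVH : V ≤ H := by rintro _ ⟨σ, -, rfl⟩; exact ιH σ
  have memV : ∀ σ, ι σ ∈ V ↔ σ ∈ klein := fun σ =>
    ⟨fun ⟨τ, hτ, h⟩ => ιinj h ▸ hτ, fun h => ⟨σ, h, rfl⟩⟩
  have hV2 : ∀ v ∈ V, v * v = 1 := by
    rintro _ ⟨σ, hσ, rfl⟩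
    rw [← map_mul, klein_exponent hσ, map_one]
  have hV : IsKleinFour V := isKleinFour_of_card V hV4 hV2
  have hVne : V ≠ ⊥ := fun h => by rw [h, card_bot] at hV4; omega
  have hHV : H ≤ normalizer (V : Set G) := fun x hx => mem_normalizer_of_forall fun v hv => by
    obtain ⟨σ, rfl⟩ := ιsurj x hx
    obtain ⟨τ, hτ, rfl⟩ := hv
    exact ⟨σ * τ * σ⁻¹, klein_normal.conj_mem τ hτ σ, by simp⟩
  have hNV : normalizer (V : Set G) = H := normalizer_eq_of_le hmax hcore hVH hVne hHV
  have hCV : centralizer (V : Set G) = V := by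
    apply le_antisymm
    · intro x hx
      obtain ⟨σ, rfl⟩ := ιsurj x (hNV ▸ mem_normalizer_of_forall (fun v hv => by
        rw [← mem_centralizer_iff.1 hx v hv, mul_inv_cancel_right]; exact hv))
      exact (memV σ).2 (klein_centralizer σ fun v hv => ιinj (by
        rw [map_mul, map_mul]; exact mem_centralizer_iff.1 hx _ ((memV v).2 hv)))
    · intro x hx
      refine mem_centralizer_iff.2 fun v hv => ?_
      haveI := hV
      have inv : ∀ y ∈ V, y⁻¹ = y := fun y hy => inv_eq_of_mul_eq_one_left (hV2 y hy)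
      rw [← inv _ (mul_mem hv hx), mul_inv_rev, inv v hv, inv x hx]
  -- the conjugate
  set H' : Subgroup G := H.map (MulAut.conj g).toMonoidHom
  set V' : Subgroup G := V.map (MulAut.conj g).toMonoidHom
  have hV'4 : Nat.card V' = 4 := by
    rw [card_map_of_injective (MulAut.conj g).injective, hV4]
  have hV'2 : ∀ v ∈ V', v * v = 1 := by
    rintro _ ⟨v, hv, rfl⟩
    rw [← map_mul, hV2 v hv, map_one]
  have hV'H' : V' ≤ H' := Subgroup.map_mono hVH
  have hH'V' : H' ≤ normalizer (V' : Set G) := by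
    rintro _ ⟨x, hx, rfl⟩
    refine mem_normalizer_of_forall ?_
    rintro _ ⟨v, hv, rfl⟩
    exact ⟨x * v * x⁻¹, (mem_normalizer_iff.1 (hHV hx) v).1 hv, by simp [mul_assoc]⟩
  -- the intersection
  set D : Subgroup G := H ⊓ H'
  have hDH : D ≤ H := inf_le_left
  have hD8 : Nat.card D = 8 := by
    have := card_of_rel_three hDH hrel
    omega
  have hDp : IsPGroup 2 D := isPGroup_two_of_card (n := 3) hD8
  have hVD : V ≤ D := le_of_rel_three hDH hrel hDp hVH (isPGroup_two_of_card (n := 2) hV4)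
    (hDH.trans hHV)
  have hrel' : D.relIndex H' = 3 := by
    have hH'24 : Nat.card H' = 24 := by
      rw [card_map_of_injective (MulAut.conj g).injective, hH24]
    have h1 := (D.subgroupOf H').card_mul_index
    rw [Nat.card_congr (Subgroup.subgroupOfEquivOfLe (inf_le_right : D ≤ H')).toEquiv, hD8,
      hH'24] at h1
    rw [Subgroup.relIndex]
    omega
  have hV'D : V' ≤ D := le_of_rel_three inf_le_right hrel' hDp hV'H'
    (isPGroup_two_of_card (n := 2) hV'4) ((inf_le_right : D ≤ H').trans hH'V')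
  have hV'V : ¬ V' ≤ V := by
    intro h
    have heq : V' = V := Subgroup.eq_of_le_of_card_ge h (by rw [hV'4, hV4])
    apply hgH
    rw [← hNV]
    exact mem_normalizer_of_forall fun v hv => heq ▸ ⟨v, hv, rfl⟩
  obtain ⟨x, hxV', hxV⟩ := SetLike.not_le_iff_exists.1 hV'V
  -- a common involution
  obtain ⟨u, hu, hu1, hucen⟩ : ∃ u ∈ V ⊓ V', u ≠ 1 ∧ ∀ d ∈ D, u * d = d * u := by
    have hne : ∃ u ∈ V ⊓ V', u ≠ 1 := by
      by_contra! h
      let f : V × V' → D := fun p => ⟨p.1 * p.2, mul_mem (hVD p.1.2) (hV'D p.2.2)⟩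
      have hf : Function.Injective f := by
        rintro ⟨a, b⟩ ⟨a', b'⟩ hab
        have hab' : (a : G) * b = a' * b' := congrArg Subtype.val hab
        have h1 : (a' : G)⁻¹ * a = b' * (b : G)⁻¹ := by
          rw [eq_mul_inv_iff_mul_eq, mul_assoc, hab', inv_mul_cancel_left]
        have h2 : (a' : G)⁻¹ * a = 1 := h _ (Subgroup.mem_inf.2 ⟨mul_mem (inv_mem a'.2) a.2, by
          rw [h1]; exact mul_mem b'.2 (inv_mem b.2)⟩)
        have h3 : (a : G) = a' := (inv_mul_eq_one.1 h2).symm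
        rw [h3] at hab'
        exact Prod.ext (Subtype.ext h3) (Subtype.ext (mul_left_cancel hab'))
      have := Nat.card_le_card_of_injective f hf
      rw [Nat.card_prod, hV4, hV'4, hD8] at this
      omega
    obtain ⟨u, hu, hu1⟩ := hne
    refine ⟨u, hu, hu1, fun d hd => ?_⟩
    have huc : d * u * d⁻¹ ∈ V ⊓ V' := ⟨(mem_normalizer_iff.1 (hHV hd.1) u).1 hu.1,
      (mem_normalizer_iff.1 (hH'V' hd.2) u).1 hu.2⟩
    have heq : d * u * d⁻¹ = u := by
      by_contra hne
      have h3 : 3 ≤ Nat.card ↥(V ⊓ V') := by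
        haveI := Fintype.ofFinite ↥(V ⊓ V')
        rw [Nat.card_eq_fintype_card]
        have hc : ({⟨1, one_mem _⟩, ⟨u, hu⟩, ⟨_, huc⟩} : Finset ↥(V ⊓ V')).card = 3 := by
          rw [Finset.card_eq_three]
          exact ⟨_, _, _, by simpa [Subtype.ext_iff] using Ne.symm hu1,
            by simpa [Subtype.ext_iff] using fun h => hu1 (by simpa using h.symm),
            by simpa [Subtype.ext_iff] using Ne.symm hne, rfl⟩
        exact hc ▸ Finset.card_le_univ _
      have h4 : Nat.card ↥(V ⊓ V') ∣ 4 := hV'4 ▸ Subgroup.card_dvd_of_le inf_le_right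
      have h5 := Nat.le_of_dvd (by norm_num) h4
      have h6 : Nat.card ↥(V ⊓ V') = 4 := by
        interval_cases hq : Nat.card ↥(V ⊓ V') <;> omega
      refine hV'V ?_
      rw [← Subgroup.eq_of_le_of_card_ge (inf_le_right : V ⊓ V' ≤ V') (by rw [h6, hV'4])]
      exact inf_le_left
    rw [← mul_inv_eq_iff_eq_mul.1 heq]
  have hVidx : (V.subgroupOf D).index = 2 := by
    have h1 := (V.subgroupOf D).card_mul_index
    rw [Nat.card_congr (Subgroup.subgroupOfEquivOfLe hVD).toEquiv, hV4, hD8] at h1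
    omega
  -- involutions of D lie in V or V'
  have hinv : ∀ y ∈ D, y * y = 1 → y ∈ V ∨ y ∈ V' := by
    intro y hy hy2
    rw [or_iff_not_imp_left]
    intro hyV
    have hxy : x * y ∈ V := by
      have := (mul_mem_iff_of_index_two hVidx (a := ⟨x, hV'D hxV'⟩) (b := ⟨y, hy⟩)).2
        (iff_of_false (fun h => hxV (mem_subgroupOf.1 h)) (fun h => hyV (mem_subgroupOf.1 h)))
      exact mem_subgroupOf.1 this
    obtain ⟨σx, rfl⟩ := ιsurj x (hDH (hV'D hxV'))
    obtain ⟨σy, rfl⟩ := ιsurj y hy.1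
    obtain ⟨σu, rfl⟩ := ιsurj u (hVH hu.1)
    rcases outer_pair σx σy σu (ιinj (by rw [map_mul, hV'2 _ hxV', map_one]))
      (fun h => hxV ((memV _).2 h)) (ιinj (by rw [map_mul, hy2, map_one]))
      (fun h => hyV ((memV _).2 h)) ((memV _).1 (by rw [map_mul]; exact hxy)) ((memV _).1 hu.1)
      (fun h => hu1 (by rw [h, map_one]))
      (ιinj (by rw [map_mul, map_mul]; exact hucen _ (hV'D hxV')))
      (ιinj (by rw [map_mul, map_mul]; exact hucen _ hy)) with h | h
    · rw [h]; exact hxV'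
    · rw [h, map_mul]; exact mul_mem hxV' hu.2
  have hnorm : ¬ H ≤ normalizer (D : Set G) → ∀ y ∈ H, y ∈ normalizer (D : Set G) → y ∈ D :=
    fun h y => mem_of_normalizer hDH hrel h
  -- the swap
  have hgD : D.map (MulAut.conj g⁻¹).toMonoidHom ≤ H := by
    rintro _ ⟨d, hd, rfl⟩
    simpa [mem_conjImage] using (mem_conjImage.1 hd.2)
  obtain ⟨h, hh, hconj⟩ := exists_conj_of_rel_three hDH hrel hDp hgD
    (card_map_of_injective (MulAut.conj g⁻¹).injective)
  set n : G := h * g⁻¹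
  have hnH : n ∉ H := fun hn => hgH (by simpa [n] using mul_mem (inv_mem hn) hh)
  have hnD : n ∈ normalizer (D : Set G) := mem_normalizer_iff.2 fun y => by
    have h1 := hconj (g⁻¹ * y * g)
    rw [mem_conjImage, inv_inv, show g * (g⁻¹ * y * g) * g⁻¹ = y by group,
      show h * (g⁻¹ * y * g) * h⁻¹ = n * y * n⁻¹ by simp [n, mul_assoc]] at h1
    exact h1
  have hnV' : ∀ y, y ∈ V' → n * y * n⁻¹ ∈ V := by
    intro y hy
    rw [show n * y * n⁻¹ = h * (g⁻¹ * y * g) * h⁻¹ by simp [n, mul_assoc]]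
    exact (mem_normalizer_iff.1 (hHV hh) _).1 (mem_conjImage.1 hy)
  have hnV : ∀ v ∈ V, n * v * n⁻¹ ∈ V' := by
    have hor : ∀ v ∈ V, n * v * n⁻¹ ∈ V ∨ n * v * n⁻¹ ∈ V' := fun v hv =>
      hinv _ ((mem_normalizer_iff.1 hnD v).1 (hVD hv))
        (by rw [show n * v * n⁻¹ * (n * v * n⁻¹) = n * (v * v) * n⁻¹ by group, hV2 v hv]; simp)
    obtain ⟨v0, hv0, hv0n⟩ : ∃ v0 ∈ V, n * v0 * n⁻¹ ∉ V := by
      by_contra! hall
      exact hnH (hNV ▸ mem_normalizer_of_forall hall)
    have hv0' := (hor v0 hv0).resolve_left hv0n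
    intro v hv
    refine (hor v hv).elim (fun hvn => ?_) id
    by_contra hvn'
    rcases hor _ (mul_mem hv hv0) with h1 | h1
    · refine hv0n ?_
      rw [show n * v0 * n⁻¹ = (n * v * n⁻¹)⁻¹ * (n * (v * v0) * n⁻¹) by group]
      exact mul_mem (inv_mem hvn) h1
    · refine hvn' ?_
      rw [show n * v * n⁻¹ = (n * (v * v0) * n⁻¹) * (n * v0 * n⁻¹)⁻¹ by group]
      exact mul_mem h1 (inv_mem hv0')
  have hn2 : n * n ∈ D := by
    refine hnorm (fun hle => hnH ?_) _ ?_ (mul_mem hnD hnD)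
    · rw [← normalizer_eq_of_le hmax hcore hDH (fun hbot => ?_) hle]
      · exact hnD
      · rw [hbot, card_bot] at hD8; omega
    · rw [← hNV]
      refine mem_normalizer_of_forall fun v hv => ?_
      rw [show n * n * v * (n * n)⁻¹ = n * (n * v * n⁻¹) * n⁻¹ by group]
      exact hnV' _ (hnV v hv)
  obtain ⟨P, hDP, -, hP16⟩ := exists_sylow_ge hDp hnD (fun h => hnH (hDH h)) hn2
  rw [hD8] at hP16
  -- simplicity
  have hsimple : ∀ N : Subgroup G, N.Normal → N ≠ ⊥ → N = ⊤ := by
    intro N hNn hN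
    haveI := hNn
    obtain ⟨c, hcN, hc1, hcP, hcc⟩ := exists_central_mem N
      (two_dvd_card_of_not_solvable (not_isSolvable_of_normal hns hmax hcore hsolH hN)) P
    have hcV : c ∈ V := hCV ▸ mem_centralizer_iff.2 fun v hv => hcc v (hDP (hVD hv))
    obtain ⟨σc, hσc, rfl⟩ := hcV
    have hVN : V ≤ N := by
      rintro _ ⟨σ, hσ, rfl⟩
      by_cases hσ1 : σ = 1
      · rw [hσ1, map_one]; exact one_mem _
      obtain ⟨z, rfl⟩ := klein_transitive σc σ hσc (fun h => hc1 (by rw [h, map_one])) hσ hσ1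
      rw [map_mul, map_mul, map_inv]
      exact hNn.conj_mem _ hcN _
    have hxN : x ∈ N := by
      obtain ⟨v, hv, rfl⟩ := hxV'
      simpa using hNn.conj_mem v (hVN hv) g
    obtain ⟨σx, rfl⟩ := ιsurj x (hDH (hV'D hxV'))
    have htop : N.comap ι = ⊤ := by
      haveI : (N.comap ι).Normal := hNn.comap ι
      exact eq_top_of_outer _ (ιinj (by rw [map_mul, hV'2 _ hxV', map_one]))
        (fun h => hxV ((memV _).2 h)) hxN
    have hHN : H ≤ N := fun y hy => by
      obtain ⟨σ, rfl⟩ := ιsurj y hy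
      exact (htop ▸ mem_top σ : σ ∈ N.comap ι)
    rw [← sup_eq_top_of_normal hmax hcore hN, sup_eq_left.2 hHN]
  haveI : Nontrivial G := by
    by_contra h
    haveI := not_nontrivial_iff_subsingleton.1 h
    exact hns inferInstance
  refine ⟨⟨fun N hN => or_iff_not_imp_left.2 (hsimple N hN)⟩, V, P, hV, hCV, hNV, hH24, hP16, ?_⟩
  refine maximal_class_type P.isPGroup' (Nat.le_of_dvd Nat.card_pos hP16)
    (V.subgroupOf (P : Subgroup G)) ?_ ?_
  · refine isKleinFour_of_card _ ?_ fun v hv => Subtype.ext (hV2 _ hv)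
    rw [Nat.card_congr (Subgroup.subgroupOfEquivOfLe (hVD.trans hDP)).toEquiv, hV4]
  · ext p
    rw [mem_subgroupOf]
    conv_rhs => rw [← hCV]
    constructor
    · exact fun hp => mem_centralizer_iff.2 fun v hv => congrArg Subtype.val
        (mem_centralizer_iff.1 hp ⟨v, hDP (hVD hv)⟩ hv)
    · exact fun hp => mem_centralizer_iff.2 fun v hv => Subtype.ext
        (mem_centralizer_iff.1 hp v hv)

end CfsgLib.SubdegreeThree
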