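import Cfsg.Agent.Lib.GW.AutTwo
import Cfsg.Agent.Lib.PSLKleinAut.Basic

/-!
Four-groups of `PSL₂(q)`, `q ≡ ±1 (mod 16)`: a maximal normalizer of order 24 forces `q` prime, and an outer
involutory automorphism centralizing a four-group fixes more than 24 elements.
-/

set_option autoImplicit false
set_option linter.unusedSectionVars false

open Matrix

namespace CfsgLib.SubdegreeThree

open CfsgLib.ReflectionsSpinor.PSL CfsgLib.GW.PGLTwo

universe u

variable {F : Type u} [Field F] [Fintype F]

local notation "M₂" => Matrix (Fin 2) (Fin 2) F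
local notation "GL₂" => GL (Fin 2) F
local notation "A" => toAutHom (n := 2) (F := F)
local notation "L" => Matrix.ProjectiveSpecialLinearGroup (Fin 2) F
local notation "AutP" => MulAut (Matrix.ProjectiveSpecialLinearGroup (Fin 2) F)

section Arith

variable (hq : Fintype.card F % 16 = 1 ∨ Fintype.card F % 16 = 15)
include hq

theorem two_ne_zero' : (2 : F) ≠ 0 := fun h => by
  haveI : CharP F 2 := CharTwo.of_one_ne_zero_of_two_eq_zero one_ne_zero h
  obtain ⟨n, hn⟩ := FiniteField.card F 2
  have hpos : 0 < (n : ℕ) := n.2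
  rw [hn.2] at hq
  obtain ⟨k, hk⟩ : 2 ∣ 2 ^ (n : ℕ) := dvd_pow_self 2 hpos.ne'
  omega

theorem three_lt : 3 < Fintype.card F := by
  have := Fintype.one_lt_card (α := F); omega

theorem center_eq_bot : Subgroup.center L = ⊥ := by
  haveI := CfsgLib.PSLKleinAut.isSimpleGroup_psl2 (three_lt hq)
  rcases (inferInstance : (Subgroup.center L).Normal).eq_bot_or_eq_top with h | h
  · exact h
  · exfalso
    have h1 := CfsgLib.PSLKleinAut.commutator_psl2 (three_lt hq)
    have h2 : commutator L = ⊥ := by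
      rw [commutator_def, Subgroup.commutator_eq_bot_iff_le_centralizer, Subgroup.coe_top,
        Subgroup.centralizer_univ, h]
    exact bot_ne_top (h2.symm.trans h1)

theorem conj_injective : Function.Injective (MulAut.conj : L → AutP) := by
  intro a b h
  have : a⁻¹ * b ∈ Subgroup.center L := Subgroup.mem_center_iff.2 fun x => by
    have e : a * x * a⁻¹ = b * x * b⁻¹ := DFunLike.congr_fun h x
    calc x * (a⁻¹ * b) = a⁻¹ * (a * x * a⁻¹) * b := by group
      _ = a⁻¹ * b * x := by rw [e]; group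
  rwa [center_eq_bot hq, Subgroup.mem_bot, inv_mul_eq_one] at this

omit hq in
theorem map_conj (α : AutP) (x : L) : MulAut.conj (α x) = α * MulAut.conj x * α⁻¹ := by
  refine MulEquiv.ext fun y => ?_
  simp [MulAut.conj_apply]

theorem fixes_iff {α : AutP} {x : L} : α x = x ↔ α * MulAut.conj x = MulAut.conj x * α := by
  rw [← (conj_injective hq).eq_iff (b := x), map_conj, mul_inv_eq_iff_eq_mul]

end Arith

/-! ### The fixed field of an automorphism of prime order -/

section Fixed

variable (σ : F ≃+* F)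

/-- The fixed field. -/
abbrev fixedField : Subfield F := (σ : F →+* F).eqLocusField (RingHom.id F)

theorem mem_fixedField {x : F} : x ∈ fixedField σ ↔ σ x = x := Iff.rfl

theorem card_fixedField : Fintype.card F = Nat.card (fixedField σ) ^ orderOf σ := by
  classical
  haveI : Fintype (Subgroup.zpowers σ) := Fintype.ofFinite _
  let act : MulSemiringAction (F ≃+* F) F := RingAut.applyMulSemiringAction
  haveI : FaithfulSMul (Subgroup.zpowers σ) F :=
    ⟨fun {a b} h => Subtype.ext (RingEquiv.ext fun x => h x)⟩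
  have hfr := FixedPoints.finrank_eq_card (Subgroup.zpowers σ) F
  have hcard : Nat.card (FixedPoints.subfield (Subgroup.zpowers σ) F) = Nat.card (fixedField σ) := by
    refine Nat.card_congr (Equiv.subtypeEquivRight fun x => ?_)
    constructor
    · intro h
      exact h ⟨σ, Subgroup.mem_zpowers σ⟩
    · rintro h ⟨τ, k, rfl⟩
      have : σ ∈ MulAction.stabilizer (F ≃+* F) x := h
      exact Subgroup.zpow_mem _ this k
  rw [← Nat.card_eq_fintype_card, Module.natCard_eq_pow_finrank (K := FixedPoints.subfield (Subgroup.zpowers σ) F),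
    hfr, hcard, ← Nat.card_eq_fintype_card (α := Subgroup.zpowers σ), Nat.card_zpowers]

/-- The elements fixed by a field automorphism contain `PSL₂` of the fixed field. -/
theorem card_fixed_semiAut (hr : (orderOf σ).Prime)
    (hq : Fintype.card F % 16 = 1 ∨ Fintype.card F % 16 = 15) :
    24 < Nat.card {x : L // semiAut (1 : GL₂) σ x = x} := by
  classical
  set F₀ := fixedField σ
  haveI : Fintype F₀ := Fintype.ofFinite _
  set q₀ := Fintype.card F₀ with hq₀
  have hc : Fintype.card F = q₀ ^ orderOf σ := by rw [card_fixedField σ, Nat.card_eq_fintype_card]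
  have hq5 : 5 ≤ q₀ := by
    have h1 : 1 < q₀ := Fintype.one_lt_card
    by_contra h
    have hodd : q₀ = 3 := by
      rcases Nat.even_or_odd q₀ with ⟨k, hk⟩ | ⟨k, hk⟩
      · have h2 : 2 ∣ q₀ ^ orderOf σ := dvd_pow ⟨k, by omega⟩ hr.ne_zero
        omega
      · omega
    rw [hodd] at hc
    rcases hr.eq_two_or_odd with h2 | h2
    · rw [h2] at hc; omega
    · obtain ⟨k, hk⟩ : ∃ k, orderOf σ = 2 * k + 1 := ⟨orderOf σ / 2, by omega⟩
      have key : ∀ k : ℕ, 3 ^ (2 * k + 1) % 16 = 3 ∨ 3 ^ (2 * k + 1) % 16 = 11 := fun k => by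
        induction k with
        | zero => simp
        | succ k ih =>
          rw [show 2 * (k + 1) + 1 = 2 * k + 1 + 2 by ring, pow_add]
          omega
      have := key k
      rw [hk] at hc
      omega
  let ι : F₀ →+* F := F₀.subtype
  let π : Matrix.SpecialLinearGroup (Fin 2) F₀ →* L :=
    (QuotientGroup.mk' _).comp (Matrix.SpecialLinearGroup.map ι)
  have hfix : ∀ t, semiAut (1 : GL₂) σ (π t) = π t := fun t => by
    show semiAut (1 : GL₂) σ (cl (Matrix.SpecialLinearGroup.map ι t)) = cl (Matrix.SpecialLinearGroup.map ι t)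
    rw [semiAut_cl]
    refine congrArg cl (Subtype.ext ?_)
    rw [coe_semiSLHom, inv_one, Units.val_one, Matrix.one_mul, Matrix.mul_one]
    ext i j
    exact ((t : Matrix (Fin 2) (Fin 2) F₀) i j).2
  have hker : Nat.card π.ker ≤ 2 := by
    let s : Set (Matrix.SpecialLinearGroup (Fin 2) F₀) := {1, -1}
    have hs : (π.ker : Set _) ⊆ s := fun t ht => by
      have ht' : cl (Matrix.SpecialLinearGroup.map ι t) = cl (1 : Matrix.SpecialLinearGroup (Fin 2) F) := ht
      obtain ⟨c, hc⟩ := cl_eq_cl_iff.1 ht'.symm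
      have e00 : ((t : Matrix (Fin 2) (Fin 2) F₀) 0 0 : F) = c := by simpa [ι] using congrFun (congrFun hc 0) 0
      have e01 : ((t : Matrix (Fin 2) (Fin 2) F₀) 0 1 : F) = 0 := by simpa [ι] using congrFun (congrFun hc 0) 1
      have e10 : ((t : Matrix (Fin 2) (Fin 2) F₀) 1 0 : F) = 0 := by simpa [ι] using congrFun (congrFun hc 1) 0
      have e11 : ((t : Matrix (Fin 2) (Fin 2) F₀) 1 1 : F) = c := by simpa [ι] using congrFun (congrFun hc 1) 1
      have hd : c * c = 1 := by
        have h0 := t.det_coe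
        rw [Matrix.det_fin_two] at h0
        have := congrArg (fun z : F₀ => (z : F)) h0
        simp only [Subfield.coe_sub, Subfield.coe_mul, Subfield.coe_one] at this
        rw [e00, e01, e10, e11] at this
        linear_combination this
      rcases mul_self_eq_one_iff.1 hd with rfl | rfl
      · refine Or.inl (Subtype.ext ?_)
        ext i j
        fin_cases i <;> fin_cases j <;> simp [e00, e01, e10, e11]
      · refine Or.inr (Subtype.ext ?_)
        ext i j
        fin_cases i <;> fin_cases j <;> simp [e00, e01, e10, e11]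
    have h1 := Set.ncard_le_ncard hs
    rw [← Nat.card_coe_set_eq] at h1
    exact h1.trans ((Set.ncard_insert_le _ _).trans (by rw [Set.ncard_singleton]))
  have hcard := π.ker.index_mul_card
  rw [Subgroup.index_ker, CfsgLib.ClassicalLinear.card_SL_two (q := q₀) hq₀.symm] at hcard
  have h120 : 120 ≤ q₀ * (q₀ ^ 2 - 1) := by
    have : 25 ≤ q₀ ^ 2 := by nlinarith
    calc 120 = 5 * 24 := rfl
      _ ≤ q₀ * (q₀ ^ 2 - 1) := Nat.mul_le_mul hq5 (by omega)
  have hrange : 60 ≤ Nat.card π.range := by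
    have := Nat.mul_le_mul_left (Nat.card π.range) hker
    omega
  have hle : Nat.card π.range ≤ Nat.card {x : L // semiAut (1 : GL₂) σ x = x} :=
    Nat.card_le_card_of_injective (fun x => ⟨x.1, by obtain ⟨t, ht⟩ := x.2; rw [← ht]; exact hfix t⟩)
      fun x y h => Subtype.ext (Subtype.mk.inj h)
  omega

end Fixed

/-! ### Descent -/

section Descent

variable (h2 : (2 : F) ≠ 0)
include h2

/-- A trace zero matrix fixed by `σ`, composed with `σ`, is conjugate to `σ`. -/
theorem exists_descent {σ : F ≃+* F} (hσ : ∀ x, σ (σ x) = x) (hσ1 : σ ≠ 1) {v : GL₂}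
    (hv : (v : M₂).trace = 0) (hfix : gmap σ v = v) :
    ∃ P : GL₂, A v * semiAut (1 : GL₂) σ = A P * semiAut (1 : GL₂) σ * (A P)⁻¹ := by
  classical
  set F₀ := fixedField σ
  haveI : Fintype F₀ := Fintype.ofFinite _
  obtain ⟨w, hw⟩ : ∃ w, σ w ≠ w := by
    by_contra h
    push Not at h
    exact hσ1 (RingEquiv.ext h)
  set θ := w - σ w with hθ
  have hθ0 : θ ≠ 0 := sub_ne_zero.2 (Ne.symm hw)
  have hθσ : σ θ = -θ := by rw [hθ, map_sub, hσ]; ring
  have hdet : σ (v : M₂).det = (v : M₂).det := by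
    have := det_gmap σ v
    rw [hfix] at this
    exact this.symm
  have hd0 := det_ne_zero v
  -- an element of norm `-det v`
  obtain ⟨x, y, hxy⟩ := exists_norm_eq (F := F₀) (fun h => h2 (congrArg Subtype.val h))
    (δ := ⟨-(θ * θ), by rw [mem_fixedField, map_neg, map_mul, hθσ]; ring⟩)
    (fun h => by
      have : -(θ * θ) = 0 := congrArg Subtype.val h
      simp [hθ0] at this)
    ⟨-(v : M₂).det, by rw [mem_fixedField, map_neg, hdet]⟩
  have hxy' : (x : F) ^ 2 + -(θ * θ) * (y : F) ^ 2 = -(v : M₂).det := by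
    have := congrArg Subtype.val hxy
    simpa using this
  set ν : F := x + y * θ with hν
  have hσν : σ ν = x - y * θ := by
    rw [hν, map_add, map_mul, hθσ, (mem_fixedField σ).1 x.2, (mem_fixedField σ).1 y.2]; ring
  have hN : ν * σ ν = -(v : M₂).det := by rw [hσν, hν]; linear_combination hxy'
  have hν0 : ν ≠ 0 := fun h => hd0 (by rw [h, zero_mul] at hN; linear_combination hN)
  have hσν0 : σ ν ≠ 0 := (map_ne_zero_iff σ σ.injective).2 hν0
  -- a scalar start giving an invertible matrix
  have key : ∃ μ : F, μ ^ 2 + (v : M₂).det * (σ μ / ν) ^ 2 ≠ 0 := by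
    by_contra h
    push Not at h
    have hone := h 1
    rw [map_one] at hone
    have hd : (v : M₂).det = -ν ^ 2 := by field_simp at hone; linear_combination hone
    have hsq : ∀ μ : F, σ μ ^ 2 = μ ^ 2 := fun μ => by
      have := h μ
      rw [hd] at this
      field_simp at this
      linear_combination -this
    rcases sq_eq_sq_iff_eq_or_eq_neg.1 (hsq w) with e | e
    · exact hw e
    rcases sq_eq_sq_iff_eq_or_eq_neg.1 (hsq (w + 1)) with e' | e' <;> rw [map_add, map_one, e] at e'
    · have : (2 : F) * w = 0 := by linear_combination -e'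
      exact hw (by rw [(mul_eq_zero.1 this).resolve_left h2, map_zero])
    · exact h2 (by linear_combination e')
  obtain ⟨μ, hμ⟩ := key
  let P : GL₂ := Matrix.GeneralLinearGroup.mkOfDetNeZero (μ • (1 : M₂) + (σ μ / ν) • (v : M₂))
    (by rw [det_add_smul h2 hv]; exact hμ)
  have hP : ((v * gmap σ P : GL₂) : M₂) = ν • (P : M₂) := by
    have hmap : (gmap σ P : M₂) = σ μ • (1 : M₂) + (μ / σ ν) • (v : M₂) := by
      have hv' : ∀ i j, σ ((v : M₂) i j) = (v : M₂) i j := fun i j => by
        have := congrFun (congrFun (show (gmap σ v : M₂) = (v : M₂) by rw [hfix]) i) j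
        simpa [coe_gmap] using this
      rw [coe_gmap]
      show (μ • (1 : M₂) + (σ μ / ν) • (v : M₂)).map σ = _
      ext i j
      by_cases hij : i = j <;>
        simp [hij, hv', hσ, map_add, map_mul, map_div₀]
    have hvv : (v : M₂) * (v : M₂) = -((v : M₂).det • (1 : M₂)) := by
      rw [sq_eq, hv, zero_smul, zero_sub]
    rw [Units.val_mul, hmap, Matrix.mul_add, Matrix.mul_smul, Matrix.mul_smul, Matrix.mul_one, hvv]
    show _ = ν • (μ • (1 : M₂) + (σ μ / ν) • (v : M₂))
    rw [smul_add, smul_smul, smul_smul, smul_neg, smul_smul, ← neg_smul, add_comm]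
    congr 2
    · field_simp
      linear_combination -μ * hN
    · field_simp
  refine ⟨P, ?_⟩
  have hA : A (v * gmap σ P) = A P := A_eq_iff.2 ⟨ν, hν0, hP⟩
  have hc : semiAut (1 : GL₂) σ * A P = A (gmap σ P) * semiAut (1 : GL₂) σ := by
    simp [toAutHom_apply, semiAut_mul, gmap_one]
  rw [eq_mul_inv_iff_mul_eq, mul_assoc, hc, ← mul_assoc, ← map_mul, hA]

end Descent

/-! ### The standard four-group -/

/-- The fixed elements of conjugate automorphisms. -/
theorem card_fixed_conj {H : Type*} [Group H] (β τ : MulAut H) :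
    Nat.card {x : H // (β * τ * β⁻¹) x = x} = Nat.card {x : H // τ x = x} := by
  refine Nat.card_congr (Equiv.subtypeEquiv β.symm.toEquiv fun x => ?_)
  show β (τ (β.symm x)) = x ↔ τ (β.symm x) = β.symm x
  exact β.eq_symm_apply.symm

/-- The centralizer of two elements is the four-group they generate. -/
structure Std (W : Subgroup L) (g h : GL₂) : Prop where
  trace_g : (g : M₂).trace = 0
  anti : (h : M₂) * (g : M₂) = -((g : M₂) * (h : M₂))
  fixed : ∀ σ : F ≃+* F, gmap σ g = g ∧ gmap σ h = h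
  card : Nat.card W = 4
  comm : ∀ x ∈ W, ∀ y ∈ W, x * y = y * x
  two : ∀ x ∈ W, x * x = 1
  gens : ∃ a ∈ W, ∃ b ∈ W, MulAut.conj a = A g ∧ MulAut.conj b = A h ∧ (W : Set L) = {1, a, b, a * b}

section Main

variable (hq : Fintype.card F % 16 = 1 ∨ Fintype.card F % 16 = 15)
include hq

/-- Every four-group can be moved to a standard one. -/
theorem exists_std (V : Subgroup L) (hV : IsKleinFour V) :
    ∃ (P g h : GL₂), Std (V.map (A P : AutP).toMonoidHom) g h := by
  classical
  have h2 := two_ne_zero' hq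
  obtain ⟨g, h, hg, e, hgs, hhs, hfix⟩ := exists_prime_pair (F := F) h2
  have h4 : Nat.card V = 4 := hV.card_four
  have htwo : ∀ x ∈ V, x * x = 1 := fun x hx => by
    have := Monoid.pow_exponent_eq_one (⟨x, hx⟩ : V)
    rw [hV.exponent_two, pow_two] at this
    exact congrArg Subtype.val this
  have hcomm : ∀ x ∈ V, ∀ y ∈ V, x * y = y * x := fun x hx y hy => by
    haveI := hV
    exact congrArg Subtype.val ((IsKleinFour.isMulCommutative (G := V)).is_comm.comm ⟨x, hx⟩ ⟨y, hy⟩)
  obtain ⟨a, ha, ha1⟩ : ∃ a ∈ V, a ≠ 1 := by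
    by_contra hc
    push Not at hc
    rw [(Subgroup.eq_bot_iff_forall V).2 hc, Subgroup.card_bot] at h4
    omega
  obtain ⟨b, hb, hb1, hba⟩ : ∃ b ∈ V, b ≠ 1 ∧ b ≠ a := by
    by_contra hc
    push Not at hc
    have hsub : (V : Set L) ⊆ {1, a} := fun x hx => by
      by_cases hx1 : x = 1
      · exact Or.inl hx1
      · exact Or.inr (hc x hx hx1)
    have := Set.ncard_le_ncard hsub
    rw [← Nat.card_coe_set_eq, Set.ncard_pair (Ne.symm ha1)] at this
    exact absurd (h4 ▸ this : 4 ≤ 2) (by omega)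
  have hset : (V : Set L) = {1, a, b, a * b} := by
    have hab1 : a * b ≠ 1 := fun k => hba (mul_left_cancel (k.trans (htwo a ha).symm))
    have hsub : ({1, a, b, a * b} : Set L) ⊆ V := by
      rintro x (rfl | rfl | rfl | rfl)
      exacts [V.one_mem, ha, hb, V.mul_mem ha hb]
    refine (Set.eq_of_subset_of_ncard_le hsub ?_).symm
    rw [← Nat.card_coe_set_eq, show Nat.card (V : Set L) = 4 from h4,
      Set.ncard_insert_of_notMem, Set.ncard_insert_of_notMem, Set.ncard_pair]
    · exact fun k => ha1 (mul_eq_right.1 k.symm)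
    · simp only [Set.mem_insert_iff, Set.mem_singleton_iff, not_or]
      exact ⟨Ne.symm hba, fun k => hb1 (mul_eq_left.1 k.symm)⟩
    · simp only [Set.mem_insert_iff, Set.mem_singleton_iff, not_or]
      exact ⟨Ne.symm ha1, Ne.symm hb1, Ne.symm hab1⟩
  -- the matrices
  have lift : ∀ x ∈ V, x ≠ 1 → ∃ s : GL₂, MulAut.conj x = A s ∧ (s : M₂).trace = 0 ∧ IsSquare (s : M₂).det := by
    intro x hx hx1
    obtain ⟨s, rfl⟩ := cl_surjective x
    refine ⟨Matrix.SpecialLinearGroup.toGL s, by rw [inner_eq_semiAut, toAutHom_apply], ?_, ?_⟩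
    · refine (orderOf_A_iff h2).1 ?_
      rw [toAutHom_apply, ← inner_eq_semiAut, orderOf_injective _ (conj_injective hq)]
      exact orderOf_eq_prime (by rw [pow_two]; exact htwo _ hx) hx1
    · rw [show ((Matrix.SpecialLinearGroup.toGL s : GL₂) : M₂).det = 1 from s.det_coe]
      exact IsSquare.one
  obtain ⟨s, hsa, hst, hss⟩ := lift a ha ha1
  obtain ⟨t, htb, htt, hts⟩ := lift b hb hb1
  obtain ⟨Q, -, hQ⟩ := exists_conj_of_class h2 hst hg (iff_of_true hss hgs)
  set t' : GL₂ := Q * t * Q⁻¹ with ht'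
  have hA : A t' = A Q * A t * (A Q)⁻¹ := by rw [ht', map_mul, map_mul, map_inv]
  have htt' : (t' : M₂).trace = 0 := by
    rw [ht', Units.val_mul, Units.val_mul, Matrix.trace_units_conj, htt]
  have hts' : IsSquare (t' : M₂).det := by
    rw [ht', Units.val_mul, Units.val_mul, Matrix.det_units_conj]; exact hts
  have hne : A g ≠ A t' := by
    rw [← hQ, hA, ← hsa, ← htb]
    intro k
    exact hba (conj_injective hq (mul_left_cancel (mul_right_cancel k))).symm
  have hc : A t' * A g = A g * A t' := by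
    rw [← hQ, hA, ← hsa, ← htb]
    have : MulAut.conj (G := L) a * MulAut.conj b = MulAut.conj b * MulAut.conj a := by
      rw [← map_mul, ← map_mul, hcomm a ha b hb]
    calc A Q * MulAut.conj b * (A Q)⁻¹ * (A Q * MulAut.conj a * (A Q)⁻¹)
        = A Q * (MulAut.conj b * MulAut.conj a) * (A Q)⁻¹ := by group
      _ = _ := by rw [← this]; group
  have e' := anti_of_ne h2 hg htt' hne hc
  obtain ⟨z, hzg, hz⟩ := exists_conj_in_centralizer h2 hg e' e (iff_of_true hts' hhs)
  refine ⟨z * Q, g, h, hg, e, hfix, ?_, ?_, ?_, ?_⟩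
  · rw [← h4]
    exact (Nat.card_congr (V.equivMapOfInjective _ (A (z * Q) : AutP).injective).toEquiv).symm
  · rintro _ ⟨x, hx, rfl⟩ _ ⟨y, hy, rfl⟩
    rw [← map_mul, ← map_mul, hcomm x hx y hy]
  · rintro _ ⟨x, hx, rfl⟩
    rw [← map_mul, htwo x hx, map_one]
  · refine ⟨_, ⟨a, ha, rfl⟩, _, ⟨b, hb, rfl⟩, ?_, ?_, ?_⟩
    · show MulAut.conj ((A (z * Q) : AutP) a) = _
      rw [map_conj, hsa, map_mul]
      calc A z * A Q * A s * (A z * A Q)⁻¹ = A z * (A Q * A s * (A Q)⁻¹) * (A z)⁻¹ := by group
        _ = A g := by rw [hQ, hzg]; group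
    · show MulAut.conj ((A (z * Q) : AutP) b) = _
      rw [map_conj, htb, map_mul]
      calc A z * A Q * A t * (A z * A Q)⁻¹ = A z * (A Q * A t * (A Q)⁻¹) * (A z)⁻¹ := by group
        _ = A h := by rw [← hA, hz]
    · rw [Subgroup.coe_map, hset]
      simp [Set.image_insert_eq]

variable {W : Subgroup (Matrix.ProjectiveSpecialLinearGroup (Fin 2) F)} {g h : GL (Fin 2) F} (hW : Std W g h)
include hW

/-- Field automorphisms fix the standard group. -/
theorem semiAut_fix (σ : F ≃+* F) {x : L} (hx : x ∈ W) : semiAut (1 : GL₂) σ x = x := by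
  obtain ⟨a, -, b, -, hca, hcb, hs⟩ := hW.gens
  have key : ∀ k : GL₂, gmap σ k = k → ∀ y : L, MulAut.conj y = A k → semiAut (1 : GL₂) σ y = y := by
    intro k hk y hy
    rw [fixes_iff hq, hy, toAutHom_apply, semiAut_mul, semiAut_mul]
    simp [gmap_one, hk]
  have hx' : x ∈ ({1, a, b, a * b} : Set L) := hs ▸ hx
  rcases hx' with rfl | rfl | rfl | rfl
  · exact map_one _
  · exact key g (hW.fixed σ).1 _ hca
  · exact key h (hW.fixed σ).2 _ hcb
  · rw [map_mul, key g (hW.fixed σ).1 _ hca, key h (hW.fixed σ).2 _ hcb]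

/-- An inner-diagonal automorphism fixing the standard group is conjugation by one of its elements. -/
theorem exists_conj_of_fix {β : AutP} (hβ : β ∈ (A).range) (hfix : ∀ x ∈ W, β x = x) :
    ∃ w ∈ W, MulAut.conj w = β := by
  classical
  have h2 := two_ne_zero' hq
  obtain ⟨a, ha, b, hb, hca, hcb, -⟩ := hW.gens
  set D := ((A).range ⊓ Subgroup.centralizer ({A g, A h} : Set AutP) : Subgroup AutP)
  have hD : ∀ γ : AutP, γ ∈ (A).range → (∀ x ∈ W, γ x = x) → γ ∈ D := by
    intro γ hγ hf
    refine ⟨hγ, Subgroup.mem_centralizer_iff.2 ?_⟩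
    rintro _ (rfl | rfl)
    · rw [← hca]; exact ((fixes_iff hq).1 (hf a ha)).symm
    · rw [← hcb]; exact ((fixes_iff hq).1 (hf b hb)).symm
  have hle : W.map MulAut.conj ≤ D := by
    rintro _ ⟨x, hx, rfl⟩
    refine hD _ ?_ fun y hy => ?_
    · obtain ⟨s, rfl⟩ := cl_surjective x
      exact ⟨Matrix.SpecialLinearGroup.toGL s, by rw [inner_eq_semiAut, toAutHom_apply]⟩
    · rw [MulAut.conj_apply, hW.comm x hx y hy, mul_inv_cancel_right]
  have heq : W.map MulAut.conj = D := by
    refine Subgroup.eq_of_le_of_card_ge hle ?_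
    rw [card_centralizer_four h2 hW.trace_g hW.anti, ← hW.card]
    exact le_of_eq (Nat.card_congr (W.equivMapOfInjective _ (conj_injective hq)).toEquiv)
  exact (heq ▸ hD β hβ hfix : β ∈ W.map MulAut.conj)

/-- An automorphism composed from a field automorphism of order two and an element of the standard group. -/
theorem card_fixed_of_std {σ : F ≃+* F} (hσ : orderOf σ = 2) {w : L} (hw : w ∈ W) :
    24 < Nat.card {x : L // (MulAut.conj w * semiAut (1 : GL₂) σ : AutP) x = x} := by
  have h2 := two_ne_zero' hq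
  have hbase := card_fixed_semiAut σ (hσ ▸ Nat.prime_two) hq
  have hσσ : ∀ x, σ (σ x) = x := fun x => by
    have := pow_orderOf_eq_one σ
    rw [hσ, pow_two] at this
    exact DFunLike.congr_fun this x
  have hσ1 : σ ≠ 1 := fun h => by rw [h, orderOf_one] at hσ; omega
  have main : ∀ v : GL₂, (v : M₂).trace = 0 → gmap σ v = v → MulAut.conj w = A v →
      24 < Nat.card {x : L // (MulAut.conj w * semiAut (1 : GL₂) σ : AutP) x = x} := by
    intro v hv hvσ he
    obtain ⟨P, hP⟩ := exists_descent h2 hσσ hσ1 hv hvσ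
    rw [he, hP, card_fixed_conj]
    exact hbase
  obtain ⟨a, -, b, -, hca, hcb, hs⟩ := hW.gens
  have hw' : w ∈ ({1, a, b, a * b} : Set L) := hs ▸ hw
  rcases hw' with rfl | rfl | rfl | rfl
  · rw [map_one, one_mul]; exact hbase
  · exact main g hW.trace_g (hW.fixed σ).1 hca
  · exact main h (trace_of_anti h2 hW.trace_g hW.anti) (hW.fixed σ).2 hcb
  · refine main (g * h) (trace_of_anti h2 hW.trace_g ?_) (by rw [map_mul, (hW.fixed σ).1, (hW.fixed σ).2])
      (by rw [map_mul, map_mul, hca, hcb])
    simp only [Units.val_mul, Matrix.mul_assoc, hW.anti, Matrix.mul_neg]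

end Main

variable (hq : Fintype.card F % 16 = 1 ∨ Fintype.card F % 16 = 15)
include hq

theorem card_fixed_gt (α : AutP) (hα : orderOf α = 2) (hinn : α ∉ (MulAut.conj (G := L)).range)
    (V : Subgroup L) (hV : IsKleinFour V) (hfix : ∀ v ∈ V, α v = v) : 24 < Nat.card {x : L // α x = x} := by
  obtain ⟨P, g, h, hW⟩ := exists_std hq V hV
  set β : AutP := A P * α * (A P)⁻¹ with hβ
  rw [← card_fixed_conj (A P) α, ← hβ]
  have hfixW : ∀ x ∈ V.map (A P : AutP).toMonoidHom, β x = x := by
    rintro _ ⟨x, hx, rfl⟩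
    simp [hβ, hfix x hx]
  have hβ2 : orderOf β = 2 := by
    exact (MulEquiv.orderOf_eq (MulAut.conj (A P)) α).trans hα
  set σ := fieldPart β with hσ
  set τ : AutP := semiAut (1 : GL₂) σ with hτ
  have hmem : β * τ⁻¹ ∈ (A).range := by
    rw [← fieldPart_eq_one_iff, map_mul, map_inv, hτ, fieldPart_semiAut, ← hσ, mul_inv_cancel]
  have hfix' : ∀ x ∈ V.map (A P : AutP).toMonoidHom, (β * τ⁻¹) x = x := fun x hx => by
    have : τ⁻¹ x = x := by
      conv_lhs => rw [← semiAut_fix hq hW σ hx, ← hτ]
      simp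
    rw [MulAut.mul_apply, this, hfixW x hx]
  obtain ⟨w, hw, hwe⟩ := exists_conj_of_fix hq hW hmem hfix'
  have hβe : β = MulAut.conj w * τ := by rw [hwe, inv_mul_cancel_right]
  have hσ1 : σ ≠ 1 := fun h1 => hinn (by
    have hτ1 : τ = 1 := by rw [hτ, h1]; exact semiAut_one
    refine ⟨(A P : AutP)⁻¹ w, ?_⟩
    rw [map_conj, hwe, hτ1, inv_one, mul_one, hβ]
    group)
  have hσ2 : orderOf σ = 2 := by
    refine orderOf_eq_prime ?_ hσ1
    have := pow_orderOf_eq_one β
    rw [hβ2] at this
    rw [hσ, ← map_pow, this, map_one]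
  rw [hβe]
  exact card_fixed_of_std hq hW hσ2 hw

/-- A field which is not prime has an automorphism of prime order. -/
theorem exists_prime_order (hp : ¬ (Fintype.card F).Prime) : ∃ σ : F ≃+* F, (orderOf σ).Prime := by
  obtain ⟨p, hpc⟩ := CharP.exists F
  haveI : Fact p.Prime := ⟨CharP.char_is_prime F p⟩
  obtain ⟨n, hpp, hn⟩ := FiniteField.card F p
  set φ : F ≃+* F := frobeniusEquiv F p
  have hφ : φ ≠ 1 := fun h => hp (by
    have hx : ∀ x : F, x ^ p = x := fun x => DFunLike.congr_fun h x
    have hle : Fintype.card F ≤ p := by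
      classical
      have hne : (Polynomial.X ^ p - Polynomial.X : Polynomial F) ≠ 0 := FiniteField.X_pow_card_sub_X_ne_zero F hpp.one_lt
      have hs : (Finset.univ : Finset F).val ≤ (Polynomial.X ^ p - Polynomial.X : Polynomial F).roots :=
        (Multiset.le_iff_subset Finset.univ.nodup).2 fun x _ => by simp [Polynomial.mem_roots hne, hx x]
      have := (Multiset.card_le_card hs).trans (Polynomial.card_roots' _)
      rwa [FiniteField.X_pow_card_sub_X_natDegree_eq F hpp.one_lt] at this
    rw [hn] at hle ⊢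
    have hn1 : (n : ℕ) = 1 := le_antisymm
      ((Nat.pow_le_pow_iff_right hpp.one_lt).1 (by rwa [pow_one])) n.2
    rw [hn1, pow_one]
    exact hpp)
  have hne : orderOf φ ≠ 1 := fun h => hφ (orderOf_eq_one_iff.1 h)
  obtain ⟨r, hr, hdvd⟩ := Nat.exists_prime_and_dvd hne
  exact ⟨φ ^ (orderOf φ / r), by rw [orderOf_pow_orderOf_div (orderOf_pos φ).ne' hdvd]; exact hr⟩

theorem card_prime_of_four_normalizer (V : Subgroup L) (hV : IsKleinFour V)
    (hN : Nat.card (Subgroup.normalizer (V : Set L)) = 24) (hmax : IsCoatom (Subgroup.normalizer (V : Set L))) :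
    (Fintype.card F).Prime := by
  classical
  by_contra hp
  obtain ⟨σ, hr⟩ := exists_prime_order hq hp
  obtain ⟨P, g, h, hW⟩ := exists_std hq V hV
  set W := V.map (A P : AutP).toMonoidHom with hWdef
  set N := Subgroup.normalizer (W : Set L) with hNdef
  have hNmap : N = (Subgroup.normalizer (V : Set L)).map (A P : AutP).toMonoidHom :=
    (Subgroup.map_equiv_normalizer_eq V (A P : AutP)).symm
  have hN24 : Nat.card N = 24 := by
    rw [hNmap, ← hN]
    exact (Nat.card_congr ((Subgroup.normalizer (V : Set L)).equivMapOfInjective _ (A P : AutP).injective).toEquiv).symm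
  have hNmax : IsCoatom N := by
    rw [hNmap]
    exact ((A P : AutP).mapSubgroup.isCoatom_iff _).2 hmax
  -- an automorphism fixing `N` with more fixed elements is impossible
  have noFix : ∀ α : AutP, α ≠ 1 → (∀ n ∈ N, α n = n) → ¬ 24 < Nat.card {x : L // α x = x} := by
    intro α hα hfx hgt
    let K : Subgroup L :=
      { carrier := {x | α x = x}
        one_mem' := map_one α
        mul_mem' := fun {x y} hx hy => by show α (x * y) = x * y; rw [map_mul, hx, hy]
        inv_mem' := fun {x} hx => by show α x⁻¹ = x⁻¹; rw [map_inv, hx] }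
    rcases hNmax.le_iff.1 (show N ≤ K from hfx) with h | h
    · exact hα (MulEquiv.ext fun x => (show x ∈ K from h ▸ Subgroup.mem_top x))
    · have : Nat.card K = 24 := by rw [h, hN24]
      exact absurd hgt (by rw [show Nat.card {x : L // α x = x} = Nat.card K from rfl, this]; omega)
  set τ : AutP := semiAut (1 : GL₂) σ with hτ
  have hτW : ∀ x ∈ W, τ x = x := fun x hx => semiAut_fix hq hW σ hx
  have hσ1 : σ ≠ 1 := fun h => by rw [h, orderOf_one] at hr; exact Nat.not_prime_one hr
  have hτr : τ ^ orderOf σ = 1 := by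
    have key : ∀ k : ℕ, τ ^ k = semiAut (1 : GL₂) (σ ^ k) := fun k => by
      induction k with
      | zero => simp [semiAut_one]
      | succ k ih => rw [pow_succ, pow_succ, ih, hτ, semiAut_mul, map_one, mul_one]
    rw [key, pow_orderOf_eq_one, semiAut_one]
  have hne : ∀ w : L, MulAut.conj w * τ ≠ 1 := fun w h => hσ1 (by
    have := congrArg fieldPart h
    rwa [map_mul, map_one, hτ, fieldPart_semiAut, (mem_inn_iff.1 ⟨w, rfl⟩).1, one_mul] at this)
  have hτ1 : τ ≠ 1 := fun h => hne 1 (by rw [map_one, one_mul, h])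
  -- a centralizing element of the group lies in `W`
  have hcent : ∀ x : L, (∀ y ∈ W, x * y = y * x) → x ∈ W := fun x hx => by
    have hmem : MulAut.conj x ∈ (A).range := by
      obtain ⟨s, rfl⟩ := cl_surjective x
      exact ⟨Matrix.SpecialLinearGroup.toGL s, by rw [inner_eq_semiAut, toAutHom_apply]⟩
    obtain ⟨w, hw, e⟩ := exists_conj_of_fix hq hW hmem fun y hy => by
      rw [MulAut.conj_apply, hx y hy, mul_inv_cancel_right]
    exact conj_injective hq e ▸ hw
  have hnW : ∀ n ∈ N, ∀ y ∈ W, n * y * n⁻¹ ∈ W := fun n hn y hy => (Subgroup.mem_normalizer_iff.1 hn y).1 hy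
  -- the cocycle
  have hc : ∀ α : AutP, (∀ y ∈ W, α y = y) → ∀ n ∈ N, n⁻¹ * α n ∈ W := fun α hα n hn =>
    hcent _ fun y hy => by
      have h1 : α n * y * (α n)⁻¹ = n * y * n⁻¹ := by
        have := hα _ (hnW n hn y hy)
        rwa [map_mul, map_mul, map_inv, hα y hy] at this
      calc n⁻¹ * α n * y = n⁻¹ * (α n * y * (α n)⁻¹) * α n := by group
        _ = y * (n⁻¹ * α n) := by rw [h1]; group
  rcases hr.eq_two_or_odd with hr2 | hodd
  swap
  · refine noFix τ hτ1 (fun n hn => ?_) (card_fixed_semiAut σ hr hq)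
    set c := n⁻¹ * τ n with hcdef
    have hcW := hc τ hτW n hn
    have hpow : ∀ k : ℕ, (τ ^ k) n = n * c ^ k := fun k => by
      induction k with
      | zero => simp
      | succ k ih =>
        rw [pow_succ' τ, MulAut.mul_apply, ih, map_mul, map_pow, hτW c hcW, pow_succ' c, ← mul_assoc]
        congr 1
        rw [hcdef, mul_inv_cancel_left]
    have h1 : c ^ orderOf σ = 1 := mul_eq_left.1 (show n * c ^ orderOf σ = n by rw [← hpow, hτr]; rfl)
    obtain ⟨k, hk⟩ : ∃ k, orderOf σ = 2 * k + 1 := ⟨orderOf σ / 2, by omega⟩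
    rw [hk, pow_succ, pow_mul, pow_two, hW.two c hcW, one_pow, one_mul, hcdef, inv_mul_eq_one] at h1
    exact h1.symm
  -- order two: correct by an element of `W`
  haveI : Fact (Nat.Prime 3) := ⟨Nat.prime_three⟩
  obtain ⟨⟨x, hxN⟩, hx3⟩ := exists_prime_orderOf_dvd_card' (G := N) 3 (by rw [hN24]; norm_num)
  rw [← Subgroup.orderOf_coe] at hx3
  change orderOf x = 3 at hx3
  have hx1 : x * x * x = 1 := by
    have := pow_orderOf_eq_one x
    rwa [hx3, pow_succ, pow_two] at this
  have hxW : x ∉ W := fun hx => by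
    have h := hW.two x hx
    rw [h, one_mul] at hx1
    rw [hx1, orderOf_one] at hx3
    omega
  have hxfree : ∀ w ∈ W, x * w = w * x → w = 1 := by
    intro w hw hxw
    by_contra hw1
    refine hxW (hcent x fun y hy => ?_)
    obtain ⟨a, -, b, -, -, -, hs⟩ := hW.gens
    by_cases hy1 : y = 1
    · rw [hy1, mul_one, one_mul]
    by_cases hyw : y = w
    · rw [hyw, hxw]
    -- `x` moves the two remaining elements by a permutation of order dividing three
    have hsub : ({1, w, y, w * y} : Set L) ⊆ W := by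
      rintro z (rfl | rfl | rfl | rfl)
      exacts [W.one_mem, hw, hy, W.mul_mem hw hy]
    have hwy : w * y ≠ 1 := fun k => hyw (mul_left_cancel (k.trans (hW.two w hw).symm))
    have hfull : ({1, w, y, w * y} : Set L) = W := by
      refine Set.eq_of_subset_of_ncard_le hsub ?_
      rw [← Nat.card_coe_set_eq, show Nat.card (W : Set L) = 4 from hW.card,
        Set.ncard_insert_of_notMem, Set.ncard_insert_of_notMem, Set.ncard_pair]
      · exact fun k => hw1 (mul_eq_right.1 k.symm)
      · simp only [Set.mem_insert_iff, Set.mem_singleton_iff, not_or]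
        exact ⟨Ne.symm hyw, fun k => hy1 (mul_eq_left.1 k.symm)⟩
      · simp only [Set.mem_insert_iff, Set.mem_singleton_iff, not_or]
        exact ⟨Ne.symm hw1, Ne.symm hy1, Ne.symm hwy⟩
    have hy' : x * y * x⁻¹ ∈ ({1, w, y, w * y} : Set L) := hfull.symm ▸ hnW x hxN y hy
    rcases hy' with h | h | h | h
    · exact absurd (by calc y = x⁻¹ * (x * y * x⁻¹) * x := by group
                        _ = 1 := by rw [h]; group) hy1
    · exact absurd (by calc y = x⁻¹ * (x * y * x⁻¹) * x := by group
                        _ = x⁻¹ * (w * x) := by rw [h, mul_assoc]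
                        _ = w := by rw [← hxw, inv_mul_cancel_left]) hyw
    · exact mul_inv_eq_iff_eq_mul.1 h
    · exfalso
      have hw' : x * w * x⁻¹ = w := by rw [hxw, mul_inv_cancel_right]
      have h' : x * y * x⁻¹ = w * y := h
      have e1 : x * x * y * (x * x)⁻¹ = y := by
        calc x * x * y * (x * x)⁻¹ = x * (x * y * x⁻¹) * x⁻¹ := by group
          _ = x * (w * y) * x⁻¹ := by rw [h']
          _ = (x * w * x⁻¹) * (x * y * x⁻¹) := by group
          _ = (w * w) * y := by rw [hw', h', mul_assoc]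
          _ = y := by rw [hW.two w hw, one_mul]
      have e2 : x * y * x⁻¹ = y := by
        calc x * y * x⁻¹ = x * (x * x * y * (x * x)⁻¹) * x⁻¹ := by rw [e1]
          _ = (x * x * x) * y * (x * x * x)⁻¹ := by group
          _ = y := by rw [hx1, one_mul, inv_one, mul_one]
      rw [e2] at h'
      exact hw1 (mul_eq_right.1 h'.symm)
  -- choose the correction
  let f : W → W := fun w => ⟨x⁻¹ * (w : L) * x * (w : L), W.mul_mem (by
    have h := hnW x⁻¹ (inv_mem hxN) w w.2
    rwa [inv_inv] at h) w.2⟩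
  have hf : Function.Injective f := fun u v huv => by
    have e : x⁻¹ * (u : L) * x * (u : L) = x⁻¹ * (v : L) * x * (v : L) := congrArg Subtype.val huv
    have hm : ∀ k : W, x⁻¹ * (k : L) * x ∈ W := fun k => by
      have h := hnW x⁻¹ (inv_mem hxN) k k.2
      rwa [inv_inv] at h
    have huvW := W.mul_mem u.2 v.2
    have e' : x⁻¹ * ((u : L) * v) * x = (u : L) * v := by
      calc x⁻¹ * ((u : L) * v) * x = (x⁻¹ * u * x) * (x⁻¹ * v * x) := by group
        _ = (x⁻¹ * u * x * u) * (u * (x⁻¹ * v * x)) := by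
          rw [show (x⁻¹ * (u : L) * x * u) * (u * (x⁻¹ * v * x)) = x⁻¹ * u * x * ((u : L) * u) * (x⁻¹ * v * x) by group,
            hW.two _ u.2, mul_one]
        _ = (x⁻¹ * v * x * v) * ((x⁻¹ * v * x) * u) := by rw [e, hW.comm _ u.2 _ (hm v)]
        _ = (x⁻¹ * v * x) * ((x⁻¹ * v * x) * v) * u := by
          rw [show (x⁻¹ * (v : L) * x * v) * ((x⁻¹ * v * x) * u) = x⁻¹ * v * x * ((v : L) * (x⁻¹ * v * x)) * u by group,
            hW.comm _ v.2 _ (hm v)]
        _ = ((x⁻¹ * v * x) * (x⁻¹ * v * x)) * ((v : L) * u) := by group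
        _ = (u : L) * v := by rw [hW.two _ (hm v), one_mul, hW.comm _ v.2 _ u.2]
    have h1 : (u : L) * v = 1 := hxfree _ huvW (by
      calc x * ((u : L) * v) = x * (x⁻¹ * ((u : L) * v) * x) := by rw [e']
        _ = (u : L) * v * x := by group)
    exact Subtype.ext (mul_left_cancel ((hW.two _ u.2).trans h1.symm))
  obtain ⟨⟨w, hw⟩, hwc⟩ := (Finite.injective_iff_surjective.1 hf) ⟨x⁻¹ * τ x, hc τ hτW x hxN⟩
  have hwc' : x⁻¹ * w * x * w = x⁻¹ * τ x := congrArg Subtype.val hwc
  set α : AutP := MulAut.conj w * τ with hα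
  have hαW : ∀ y ∈ W, α y = y := fun y hy => by
    rw [hα, MulAut.mul_apply, hτW y hy, MulAut.conj_apply, hW.comm w hw y hy, mul_inv_cancel_right]
  have hαx : α x = x := by
    rw [hα, MulAut.mul_apply, MulAut.conj_apply, show τ x = x * (x⁻¹ * τ x) by group, ← hwc']
    calc w * (x * (x⁻¹ * w * x * w)) * w⁻¹ = (w * w) * x := by group
      _ = x := by rw [hW.two w hw, one_mul]
  refine noFix α (hne w) ?_ (card_fixed_of_std hq hW hr2 hw)
  -- the fixed elements of `N`
  let Φ : Subgroup N :=
    { carrier := {n | α n = n}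
      one_mem' := map_one α
      mul_mem' := fun {a b} ha hb => by
        show α ((a : L) * b) = (a : L) * b
        rw [map_mul, show α (a : L) = a from ha, show α (b : L) = b from hb]
      inv_mem' := fun {a} ha => by show α (a : L)⁻¹ = (a : L)⁻¹; rw [map_inv, show α (a : L) = a from ha] }
  have h3 : 3 ∣ Nat.card Φ := by
    have hox : orderOf (⟨x, hxN⟩ : N) = 3 := by rw [← Subgroup.orderOf_coe]; exact hx3
    rw [← hox]
    exact Φ.orderOf_dvd_natCard hαx
  have h4 : 4 ∣ Nat.card Φ := by
    have hle : W.subgroupOf N ≤ Φ := fun n hn => hαW _ hn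
    have := Subgroup.card_dvd_of_le hle
    rwa [Nat.card_congr (Subgroup.subgroupOfEquivOfLe (Subgroup.le_normalizer)).toEquiv, hW.card] at this
  have hidx : Φ.index ≤ 2 := by
    have h := Φ.index_mul_card
    rw [hN24] at h
    have : 12 ∣ Nat.card Φ := Nat.Coprime.mul_dvd_of_dvd_of_dvd (by norm_num) h3 h4
    have hpos : 0 < Nat.card Φ := Nat.card_pos
    have h12 : 12 ≤ Nat.card Φ := Nat.le_of_dvd hpos this
    by_contra hh
    have := Nat.mul_le_mul (show 3 ≤ Φ.index by omega) h12
    omega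
  haveI : Φ.Normal := by
    have hpos : Φ.index ≠ 0 := Subgroup.index_ne_zero_of_finite
    rcases (show Φ.index = 1 ∨ Φ.index = 2 by omega) with h | h
    · rw [Subgroup.index_eq_one.1 h]; infer_instance
    · exact Subgroup.normal_of_index_eq_two h
  intro n hn
  have hcon : α (n * x * n⁻¹) = n * x * n⁻¹ :=
    (inferInstance : Φ.Normal).conj_mem (⟨x, hxN⟩ : N) hαx ⟨n, hn⟩
  have hd := hc α hαW n hn
  have h1 : n⁻¹ * α n = 1 := hxfree _ hd (by
    rw [map_mul, map_mul, map_inv, hαx] at hcon
    calc x * (n⁻¹ * α n) = n⁻¹ * (n * x * n⁻¹) * α n := by group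
      _ = n⁻¹ * α n * x := by rw [← hcon]; group)
  exact (inv_mul_eq_one.1 h1).symm

end CfsgLib.SubdegreeThree
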