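import Cfsg.Agent.Lib.SubdegreeThree.FourCase
import Cfsg.Agent.Lib.SubdegreeThree.EightCase
import Cfsg.Agent.Lib.SubdegreeThree.ElevenFour
import Cfsg.Agent.Lib.SubdegreeThree.LinearTwo
import Cfsg.Agent.Lib.ClassicalLinear.BlockHom
import Cfsg.Agent.S2060

/-!
The groups with a point stabilizer `S₄` or `S₄ × Z₂`, given the semidihedral classification.
-/

set_option autoImplicit false
set_option linter.style.haveILetI false
set_option linter.unusedVariables false
set_option linter.unusedSectionVars false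

open Subgroup Cfsg

namespace CfsgLib.SubdegreeThree

variable {G : Type*} [Group G] [Finite G]

/-- The semidihedral recognition used below. -/
def SemiRecognition (M : Type*) [Group M] : Prop :=
  ∀ (S : Sylow 2 M), Cfsg.IsQuasiDihedral (S : Subgroup M) → ∀ V : Subgroup M, IsKleinFour V →
    Subgroup.centralizer (V : Set M) = V → Nat.card (Subgroup.normalizer (V : Set M)) = 24 →
    Nonempty (M ≃* Matrix.ProjectiveSpecialLinearGroup (Fin 3) (ZMod 3)) ∨ Cfsg.Spor.IsoM11 M

theorem four_transport {L : Type*} [Group L] (e : G ≃* L) (V : Subgroup G) (hV : IsKleinFour V) :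
    IsKleinFour (V.map e.toMonoidHom : Subgroup L) ∧
      normalizer ((V.map e.toMonoidHom : Subgroup L) : Set L) =
        (normalizer (V : Set G)).map e.toMonoidHom := by
  haveI := hV
  let ev : V ≃* (V.map e.toMonoidHom : Subgroup L) := V.equivMapOfInjective _ e.injective
  exact ⟨⟨by rw [← Nat.card_congr ev.toEquiv, IsKleinFour.card_four],
    by rw [← Monoid.exponent_eq_of_mulEquiv ev, IsKleinFour.exponent_two]⟩,
    (Subgroup.map_equiv_normalizer_eq V e).symm⟩

/-- The case of point stabilizer `S₄`. -/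
theorem four_case (hns : ¬ Group.IsSolvable G) (H : Subgroup G) (hmax : IsCoatom H)
    (hcore : H.normalCore = ⊥) (g : G) (hgH : g ∉ H)
    (hrel : (H ⊓ H.map (MulAut.conj g).toMonoidHom).relIndex H = 3)
    (hH : Nonempty (H ≃* Equiv.Perm (Fin 4))) (hsd : IsSimpleGroup G → SemiRecognition G) :
    (∃ p : ℕ, p.Prime ∧ (p % 16 = 1 ∨ p % 16 = 15) ∧
        Nonempty (G ≃* Matrix.ProjectiveSpecialLinearGroup (Fin 2) (ZMod p))) ∨
      Nonempty (G ≃* Matrix.ProjectiveSpecialLinearGroup (Fin 3) (ZMod 3)) := by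
  obtain ⟨hs, V, P, hV, hCV, hNV, hH24, h16, htype⟩ :=
    four_structure hns H hmax hcore g hgH hrel hH
  haveI := hs
  have hN24 : Nat.card (normalizer (V : Set G)) = 24 := hNV ▸ hH24
  have hNmax : IsCoatom (normalizer (V : Set G)) := hNV ▸ hmax
  rcases htype with ⟨k, hk⟩ | hqd
  · left
    obtain ⟨F, hF, hFt, hq, ⟨e⟩⟩ := psl_two_of_dihedral hns P h16 k hk
    obtain ⟨hV', hN'⟩ := four_transport e V hV
    have hp := card_prime_of_four_normalizer hq _ hV'
      (by rw [hN', card_map_of_injective e.injective, hN24])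
      (hN' ▸ (OrderIso.isCoatom_iff e.mapSubgroup _).2 hNmax)
    exact ⟨Fintype.card F, hp, hq,
      ⟨e.trans (CfsgLib.ClassicalLinear.pslCongr (ZMod.ringEquivOfPrime F hp rfl).symm)⟩⟩
  · right
    exact (hsd hs P hqd V hV hCV hN24).resolve_right fun h =>
      isoM11_not_maximal h V hV hN24 hNmax

/-- An outside element inducing a given automorphism of `M` is impossible when it is inner. -/
theorem not_inner_of_not_mem {M : Subgroup G} [M.Normal] (hC : centralizer (M : Set G) = ⊥) {z : G}
    (hz : z ∉ M) (m : M) (h : ∀ x : M, z * (x : G) * z⁻¹ = m * x * (m : G)⁻¹) : False := by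
  apply hz
  have hmem : (m : G)⁻¹ * z ∈ centralizer (M : Set G) := mem_centralizer_iff.2 fun x hx => by
    have h' := h ⟨x, hx⟩
    calc x * ((m : G)⁻¹ * z) = (m : G)⁻¹ * (m * x * (m : G)⁻¹) * z := by group
      _ = (m : G)⁻¹ * (z * x * z⁻¹) * z := by rw [h']
      _ = (m : G)⁻¹ * z * x := by group
  rw [hC, mem_bot, inv_mul_eq_one] at hmem
  exact hmem ▸ m.2

/-- The case of point stabilizer `S₄ × Z₂`. -/
theorem eight_case (hns : ¬ Group.IsSolvable G) (H : Subgroup G) (hmax : IsCoatom H)
    (hcore : H.normalCore = ⊥) (g : G) (hgH : g ∉ H)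
    (hrel : (H ⊓ H.map (MulAut.conj g).toMonoidHom).relIndex H = 3)
    (hH : Nonempty (H ≃* Equiv.Perm (Fin 4) × Multiplicative (ZMod 2)))
    (hsd : ∀ M : Subgroup G, IsSimpleGroup M → SemiRecognition M) :
    ∃ N : Subgroup G, N.Normal ∧ N.index = 2 ∧ Subgroup.centralizer (N : Set G) = ⊥ ∧
      Nonempty (N ≃* Matrix.ProjectiveSpecialLinearGroup (Fin 3) (ZMod 3)) := by
  obtain ⟨M, hMn, hMi, hCM, hs, hnsM, z, hzM, hz2, V, P, hV, hCV, hN24, hfixV, hfix, h16, htype⟩ :=
    eight_structure hns H hmax hcore g hgH hrel hH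
  haveI := hMn
  haveI := hs
  refine ⟨M, hMn, hMi, hCM, ?_⟩
  rcases htype with ⟨k, hk⟩ | hqd
  · exfalso
    obtain ⟨F, hF, hFt, hq, ⟨e⟩⟩ := psl_two_of_dihedral hnsM P h16 k hk
    let β : MulAut M := MulAut.conjNormal z
    let α : MulAut (Matrix.ProjectiveSpecialLinearGroup (Fin 2) F) := e.symm.trans (β.trans e)
    have hα : ∀ x, α x = e (β (e.symm x)) := fun x => rfl
    have hinn : α ∉ (MulAut.conj (G := Matrix.ProjectiveSpecialLinearGroup (Fin 2) F)).range := by
      rintro ⟨l, hl⟩
      refine not_inner_of_not_mem hCM hzM (e.symm l) fun x => ?_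
      have h1 := DFunLike.congr_fun hl (e x)
      rw [hα, e.symm_apply_apply, MulAut.conj_apply] at h1
      have h2 := congrArg (fun y => ((e.symm y : M) : G)) h1
      simpa [β, MulAut.conjNormal_apply] using h2.symm
    have hord : orderOf α = 2 := by
      refine (orderOf_eq_prime_iff (p := 2)).2 ⟨?_, fun h => hinn (h ▸ one_mem _)⟩
      refine MulEquiv.ext fun x => ?_
      rw [pow_two, MulAut.mul_apply, MulAut.one_apply, hα, hα, e.symm_apply_apply]
      have : β (β (e.symm x)) = e.symm x := Subtype.ext (by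
        simp only [β, MulAut.conjNormal_apply]
        rw [show z * (z * ((e.symm x : M) : G) * z⁻¹) * z⁻¹ =
          z * z * ((e.symm x : M) : G) * (z * z)⁻¹ by group, hz2]
        simp)
      rw [this, e.apply_symm_apply]
    have hgt := card_fixed_gt hq α hord hinn (V.map e.toMonoidHom) (four_transport e V hV).1 (by
      rintro _ ⟨v, hv, rfl⟩
      show α (e v) = e v
      rw [hα, e.symm_apply_apply]
      refine congrArg e (Subtype.ext ?_)
      simp only [β, MulAut.conjNormal_apply]
      exact hfixV v hv)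
    have heq : Nat.card {x // α x = x} = 24 := by
      rw [← hfix]
      refine (Nat.card_congr (e.toEquiv.subtypeEquiv fun x => ?_)).symm
      show z * (x : G) * z⁻¹ = x ↔ α (e x) = e x
      rw [hα, e.symm_apply_apply, e.injective.eq_iff, Subtype.ext_iff, MulAut.conjNormal_apply]
    omega
  · refine (hsd M hs P hqd V hV hCV hN24).resolve_right fun h11 => ?_
    obtain ⟨e⟩ := h11
    have htop : Cfsg.Inn ↥Cfsg.Spor.M11 = ⊤ := Subgroup.index_eq_one.1 Cfsg.Agent.S2060.result
    let β : MulAut M := MulAut.conjNormal z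
    have hmem : (e.symm.trans (β.trans e) : MulAut ↥Cfsg.Spor.M11) ∈ Cfsg.Inn ↥Cfsg.Spor.M11 :=
      htop ▸ mem_top _
    obtain ⟨l, hl⟩ := hmem
    refine not_inner_of_not_mem hCM hzM (e.symm l) fun x => ?_
    have h1 := DFunLike.congr_fun hl (e x)
    have h1' : l * e x * l⁻¹ = e (β x) := by simpa [MulAut.conj_apply] using h1
    have h2 := congrArg (fun y => ((e.symm y : M) : G)) h1'
    simpa [β, MulAut.conjNormal_apply] using h2.symm

end CfsgLib.SubdegreeThree
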