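import Cfsg.Agent.Lib.SubdegreeThree.Common
import Cfsg.Agent.S3331
import Cfsg.Agent.S1008
import Cfsg.Agent.Lib.PSLKleinAut.Basic

/-!
A maximal core-free subgroup of order three is impossible in an insoluble group, and one isomorphic
to `S₃` forces `A₅`.
-/

set_option autoImplicit false
set_option linter.style.haveILetI false
set_option linter.unusedVariables false

open Subgroup

namespace CfsgLib.SubdegreeThree

variable {G : Type*} [Group G] [Finite G]

theorem solvable_sym_three : Group.IsSolvable (Equiv.Perm (Fin 3)) := by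
  let f : Equiv.Perm (Fin 3) →* ℤˣ := Equiv.Perm.sign
  haveI : Group.IsSolvable f.ker := Group.isSolvable_of_comm fun x y => by
    have h : ∀ a b : Equiv.Perm (Fin 3), Equiv.Perm.sign a = 1 → Equiv.Perm.sign b = 1 →
        a * b = b * a := by decide
    exact Subtype.ext (h x y x.2 y.2)
  haveI : Group.IsSolvable ℤˣ := Group.isSolvable_of_comm fun a b => mul_comm a b
  exact Group.isSolvable_of_ker_le_range f.ker.subtype f (by rw [Subgroup.range_subtype])

/-- An insoluble group with a self-centralising subgroup of order three under a maximal core-free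
soluble subgroup is `A₅` or `L₂(7)`. -/
theorem five_or_seven (hns : ¬ Group.IsSolvable G) (H : Subgroup G) (hmax : IsCoatom H)
    (hcore : H.normalCore = ⊥) (hH : Group.IsSolvable H) (X : Subgroup G) (hX : Nat.card X = 3)
    (hC : centralizer (X : Set G) = X) :
    Nonempty (G ≃* alternatingGroup (Fin 5)) ∨
      Nonempty (G ≃* Matrix.ProjectiveSpecialLinearGroup (Fin 2) (ZMod 7)) := by
  rcases Cfsg.Agent.S3331.result X hX hC with ⟨N, hN, hnil, -, hq⟩ | ⟨N, hN, hab, -, ⟨e⟩⟩ | h
  · exfalso
    haveI := hN
    haveI := hnil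
    haveI : Group.IsSolvable N := inferInstance
    haveI : Group.IsSolvable (G ⧸ N) := by
      rcases hq with h3 | ⟨⟨e⟩⟩
      · haveI : Fact (Nat.Prime 3) := ⟨Nat.prime_three⟩
        haveI : IsCyclic (G ⧸ N) := isCyclic_of_prime_card h3
        exact Group.isSolvable_of_comm fun a b => (IsCyclic.commGroup).mul_comm a b
      · haveI := solvable_sym_three
        exact Group.isSolvable_of_isSolvable_injective (f := e.toMonoidHom) e.injective
    exact hns ((Group.isSolvable_iff_subgroup_quotient N).2 ⟨inferInstance, inferInstance⟩)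
  · left
    haveI := hN
    have hbot : N = ⊥ := by
      by_contra hne
      exact not_isSolvable_of_normal hns hmax hcore hH hne
        (Group.isSolvable_of_comm fun a b => hab.is_comm.comm a b)
    exact ⟨((QuotientGroup.quotientMulEquivOfEq hbot).trans QuotientGroup.quotientBot).symm.trans e⟩
  · exact Or.inr h

/-- A maximal core-free subgroup of order three is impossible. -/
theorem three_false (hns : ¬ Group.IsSolvable G) (H : Subgroup G) (hmax : IsCoatom H)
    (hcore : H.normalCore = ⊥) (hH : Nonempty (H ≃* Multiplicative (ZMod 3))) : False := by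
  haveI : Fact (Nat.Prime 3) := ⟨Nat.prime_three⟩
  obtain ⟨e⟩ := hH
  have hcomm : ∀ a b : H, a * b = b * a := fun a b => e.injective (by
    rw [map_mul, map_mul, mul_comm])
  have h3 : Nat.card H = 3 := by rw [Nat.card_congr e.toEquiv]; simp
  have hne : H ≠ ⊥ := fun h => by rw [h, card_bot] at h3; omega
  have hN : normalizer (H : Set G) = H :=
    normalizer_eq_of_le hmax hcore le_rfl hne Subgroup.le_normalizer
  have hC : centralizer (H : Set G) = H := by
    refine le_antisymm (fun x hx => hN.le (mem_normalizer_of_forall fun v hv => ?_)) fun x hx =>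
      mem_centralizer_iff.2 fun v hv => congrArg Subtype.val (hcomm ⟨v, hv⟩ ⟨x, hx⟩)
    rw [← mem_centralizer_iff.1 hx v hv, mul_inv_cancel_right]; exact hv
  have hG : Nat.card G = 60 ∨ Nat.card G = 168 := by
    rcases five_or_seven hns H hmax hcore (Group.isSolvable_of_comm hcomm) H h3 hC with h' | h'
    · left
      obtain ⟨e'⟩ := h'
      rw [Nat.card_congr e'.toEquiv, nat_card_alternatingGroup, Nat.card_fin]
      rfl
    · right
      obtain ⟨e'⟩ := h'
      haveI : Fact (Nat.Prime 7) := ⟨by norm_num⟩
      rw [Nat.card_congr e'.toEquiv]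
      have h := CfsgLib.ClassicalLinear.card_PSL_two_of_odd (F := ZMod 7) (ZMod.card 7) (by decide)
      omega
  have hidx := H.card_mul_index
  rw [h3] at hidx
  let P : Sylow 3 G := (isPGroup_of_card_three h3).toSylow (by
    rcases hG with h | h <;> rw [h] at hidx <;> omega)
  have h1 := card_sylow_modEq_one 3 G
  rw [P.card_eq_index_normalizer] at h1
  have hP : normalizer ((P : Subgroup G) : Set G) = H := hN
  rw [show (normalizer (P : Set G)).index = H.index from congrArg Subgroup.index hP] at h1
  unfold Nat.ModEq at h1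
  rcases hG with h | h <;> rw [h] at hidx <;> omega
where
  isPGroup_of_card_three {K : Subgroup G} (h : Nat.card K = 3) : IsPGroup 3 K :=
    IsPGroup.of_card (n := 1) (by rw [h]; rfl)

/-- A maximal core-free subgroup isomorphic to `S₃` forces `A₅`. -/
theorem sym_three (hns : ¬ Group.IsSolvable G) (H : Subgroup G) (hmax : IsCoatom H)
    (hcore : H.normalCore = ⊥) (hH : Nonempty (H ≃* Equiv.Perm (Fin 3))) :
    Nonempty (G ≃* alternatingGroup (Fin 5)) := by
  obtain ⟨e⟩ := hH
  have h6 : Nat.card H = 6 := by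
    rw [Nat.card_congr e.toEquiv, Nat.card_perm, Nat.card_fin]; rfl
  have hsol : Group.IsSolvable H := by
    haveI := solvable_sym_three
    exact Group.isSolvable_of_isSolvable_injective (f := e.toMonoidHom) e.injective
  let ι : Equiv.Perm (Fin 3) →* G := H.subtype.comp e.symm.toMonoidHom
  have ιinj : Function.Injective ι := H.subtype_injective.comp e.symm.injective
  have ιsurj : ∀ x ∈ H, ∃ σ, ι σ = x := fun x hx => ⟨e ⟨x, hx⟩, by simp [ι]⟩
  set X : Subgroup G := (alternatingGroup (Fin 3)).map ι
  have hX : Nat.card X = 3 := by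
    rw [card_map_of_injective ιinj, nat_card_alternatingGroup, Nat.card_fin]
    rfl
  have hXH : X ≤ H := by rintro _ ⟨σ, -, rfl⟩; exact (e.symm σ).2
  have hNX : normalizer (X : Set G) = H := by
    refine normalizer_eq_of_le hmax hcore hXH (fun h => by rw [h, card_bot] at hX; omega)
      fun x hx => mem_normalizer_of_forall ?_
    obtain ⟨σ, rfl⟩ := ιsurj x hx
    rintro _ ⟨τ, hτ, rfl⟩
    exact ⟨σ * τ * σ⁻¹, (inferInstance : (alternatingGroup (Fin 3)).Normal).conj_mem τ hτ σ, by simp⟩
  have key : ∀ σ : Equiv.Perm (Fin 3),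
      (∀ τ : Equiv.Perm (Fin 3), Equiv.Perm.sign τ = 1 → τ * σ = σ * τ) ↔ Equiv.Perm.sign σ = 1 := by
    decide
  have hC : centralizer (X : Set G) = X := by
    apply le_antisymm
    · intro x hx
      obtain ⟨σ, rfl⟩ := ιsurj x (hNX.le (mem_normalizer_of_forall fun v hv => by
        rw [← mem_centralizer_iff.1 hx v hv, mul_inv_cancel_right]; exact hv))
      exact ⟨σ, Equiv.Perm.mem_alternatingGroup.2 ((key σ).1 fun τ hτ => ιinj (by
        rw [map_mul, map_mul]
        exact mem_centralizer_iff.1 hx _ ⟨τ, Equiv.Perm.mem_alternatingGroup.2 hτ, rfl⟩)), rfl⟩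
    · rintro _ ⟨σ, hσ, rfl⟩
      refine mem_centralizer_iff.2 ?_
      rintro _ ⟨τ, hτ, rfl⟩
      rw [← map_mul, ← map_mul,
        (key σ).2 (Equiv.Perm.mem_alternatingGroup.1 hσ) τ (Equiv.Perm.mem_alternatingGroup.1 hτ)]
  refine (five_or_seven hns H hmax hcore hsol X hX hC).resolve_right ?_
  rintro ⟨e'⟩
  haveI : Fact (Nat.Prime 7) := ⟨by norm_num⟩
  haveI hs : IsSimpleGroup (Matrix.ProjectiveSpecialLinearGroup (Fin 2) (ZMod 7)) :=
    CfsgLib.PSLKleinAut.isSimpleGroup_psl2 (by rw [ZMod.card]; norm_num)
  haveI : Nontrivial G := e'.toEquiv.nontrivial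
  haveI : IsSimpleGroup G :=
    IsSimpleGroup.isSimpleGroup_of_surjective e'.symm.toMonoidHom e'.symm.surjective
  have h168 : Nat.card G = 168 := by
    rw [Nat.card_congr e'.toEquiv]
    have h := CfsgLib.ClassicalLinear.card_PSL_two_of_odd (F := ZMod 7) (ZMod.card 7) (by decide)
    omega
  rcases (Cfsg.Agent.S1008.result h168).1 H hmax with h4 | ⟨h21, -⟩
  · obtain ⟨e4⟩ := h4
    rw [Nat.card_congr e4.toEquiv, card_perm_four] at h6; omega
  · omega

end CfsgLib.SubdegreeThree
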