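/-
A primitive group with a suborbit of length three and point stabilizer dihedral of order 12.
-/
import Cfsg.Agent.Lib.SubdegreeThree.Common
import Cfsg.Agent.Lib.InvChar.Transfer
import Cfsg.Agent.Lib.GW.KleinTopAt
import Cfsg.Agent.Lib.GW.AutTwo
import Cfsg.Agent.Lib.ClassicalLinear.BlockHom
import Cfsg.Agent.Lib.StronglyPEmbedded.AltAut
import Cfsg.Agent.S2119
import Cfsg.Agent.S0202
import Cfsg.Agent.S0203
import Cfsg.Agent.S0483
import Cfsg.Agent.S3224
import Cfsg.Agent.S3331
import Cfsg.Agent.Lib.TwoGroups.QuasiDihedralFacts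
import Cfsg.Agent.Lib.CoreFree.Isolated

set_option autoImplicit false
set_option linter.style.haveILetI false
set_option linter.unusedVariables false
set_option linter.unusedSectionVars false

open Subgroup Cfsg

namespace CfsgLib.SubdegreeThree

/-- Every automorphism of `A₅` is induced by `S₅`. -/
theorem aut_alt_five (α : MulAut (alternatingGroup (Fin 5))) :
    ∃ π : Equiv.Perm (Fin 5), MulAut.conjNormal π = α := by
  have h3 : ∀ x : Equiv.Perm (Fin 5), orderOf x = 3 → x.IsThreeCycle := by
    have key : ∀ x : Equiv.Perm (Fin 5), x * (x * x) = 1 → x ≠ 1 → x.support.card = 3 := by decide +kernel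
    intro x hx
    refine card_support_eq_three_iff.1 (key x ?_ fun h => ?_)
    · rw [← pow_orderOf_eq_one x, hx, pow_succ, pow_two, mul_assoc]
    · rw [h, orderOf_one] at hx; omega
  obtain ⟨π, hπ⟩ := CfsgLib.StronglyPEmbedded.exists_perm_of_preserves (α := Fin 5) (by simp)
    α.toMonoidHom (MulEquiv.injective α) (fun x hx => h3 _ (by
      rw [Subgroup.orderOf_coe, orderOf_injective α.toMonoidHom (MulEquiv.injective α),
        ← Subgroup.orderOf_coe]
      exact hx.orderOf))
  exact ⟨π, MulEquiv.ext fun x => Subtype.ext ((MulAut.conjNormal_apply π x).trans (hπ x).symm)⟩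

section
open CfsgLib.ReflectionsSpinor.PSL CfsgLib.GW.PGLTwo

/-- `Aut PSL₂(p)` is `PGL₂(p)`. -/
theorem aut_psl_two_prime (p : ℕ) [Fact p.Prime] (hp : (2 : ZMod p) ≠ 0) :
    Nonempty (MulAut (Matrix.ProjectiveSpecialLinearGroup (Fin 2) (ZMod p)) ≃*
      GL (Fin 2) (ZMod p) ⧸ Subgroup.center (GL (Fin 2) (ZMod p))) ∧
      Nat.card (MulAut (Matrix.ProjectiveSpecialLinearGroup (Fin 2) (ZMod p))) = p * (p ^ 2 - 1) := by
  have hA : (toAutHom (n := 2) (F := ZMod p)).range = ⊤ := eq_top_iff.2 fun b _ =>
    fieldPart_eq_one_iff.1 (RingEquiv.ext fun x => congrArg (fun f : ZMod p →+* ZMod p => f x)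
      (Subsingleton.elim (fieldPart b).toRingHom (RingHom.id _)))
  refine ⟨⟨((QuotientGroup.quotientMulEquivOfEq (toAutHom_ker (n := 2) (F := ZMod p) le_rfl).symm).trans
    ((QuotientGroup.quotientKerEquivRange _).trans
      ((MulEquiv.subgroupCongr hA).trans Subgroup.topEquiv))).symm⟩, ?_⟩
  have h := card_range (F := ZMod p) hp
  rwa [hA, Subgroup.card_top, ZMod.card] at h

end

theorem isSolvable_perm_three : Group.IsSolvable (Equiv.Perm (Fin 3)) := by
  let f : Equiv.Perm (Fin 3) →* ℤˣ := Equiv.Perm.sign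
  haveI : Group.IsSolvable f.ker := Group.isSolvable_of_comm fun x y => by
    have h : ∀ a b : Equiv.Perm (Fin 3), Equiv.Perm.sign a = 1 → Equiv.Perm.sign b = 1 →
        a * b = b * a := by decide
    exact Subtype.ext (h x y x.2 y.2)
  haveI : Group.IsSolvable ℤˣ := Group.isSolvable_of_comm fun a b => mul_comm a b
  exact Group.isSolvable_of_ker_le_range f.ker.subtype f (by rw [Subgroup.range_subtype])

theorem dihedral_six_facts :
    (DihedralGroup.r 3 : DihedralGroup 6) ≠ 1 ∧
    (DihedralGroup.r 3 : DihedralGroup 6) * DihedralGroup.r 3 = 1 ∧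
    (∀ y : DihedralGroup 6, DihedralGroup.r 3 * y = y * DihedralGroup.r 3) ∧
    (∀ y : DihedralGroup 6, DihedralGroup.sr 0 * y = y * DihedralGroup.sr 0 →
      y = 1 ∨ y = DihedralGroup.r 3 ∨ y = DihedralGroup.sr 0 ∨ y = DihedralGroup.sr 3) ∧
    (∀ i : ZMod 6, DihedralGroup.sr i * DihedralGroup.sr i = (1 : DihedralGroup 6) ∧
      (DihedralGroup.sr i : DihedralGroup 6) ≠ 1) ∧
    (∀ i : ZMod 6, (DihedralGroup.r i : DihedralGroup 6) = DihedralGroup.sr 0 * DihedralGroup.sr i) ∧
    (∀ y : DihedralGroup 6, y * DihedralGroup.r 2 * y⁻¹ = DihedralGroup.r 2 ∨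
      y * DihedralGroup.r 2 * y⁻¹ = DihedralGroup.r 4) ∧
    (∀ y : DihedralGroup 6, y * DihedralGroup.r 2 = DihedralGroup.r 2 * y →
      (∃ i : Fin 3, y = DihedralGroup.r 2 ^ (i : ℕ)) ∨
      ∃ i : Fin 3, y = DihedralGroup.r 3 * DihedralGroup.r 2 ^ (i : ℕ)) := by
  decide

theorem isSolvable_dihedral_six : Group.IsSolvable (DihedralGroup 6) := by
  let f : DihedralGroup 6 →* Multiplicative (ZMod 2) :=
    MonoidHom.mk' (fun
      | DihedralGroup.r _ => Multiplicative.ofAdd 0
      | DihedralGroup.sr _ => Multiplicative.ofAdd 1) (by decide)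
  refine Group.isSolvable_of_ker_le_range
    (zpowers (DihedralGroup.r 1 : DihedralGroup 6)).subtype f (fun d hd => ?_)
  rw [Subgroup.range_subtype]
  cases d with
  | r i =>
    obtain ⟨k, rfl⟩ := ZMod.intCast_surjective i
    exact ⟨k, DihedralGroup.r_one_zpow k⟩
  | sr i => exact absurd (MonoidHom.mem_ker.1 hd) (by decide : (Multiplicative.ofAdd (1 : ZMod 2)) ≠ 1)

variable {G : Type*} [Group G] [Finite G]

section

variable (hns : ¬ Group.IsSolvable G) {H : Subgroup G} (hmax : IsCoatom H)
  (hcore : H.normalCore = ⊥) (hHs : Group.IsSolvable H)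
include hns hmax hcore hHs

/-- The centralizer of a normal subgroup of index two is trivial. -/
theorem centralizer_eq_bot {M : Subgroup G} [M.Normal] (hi : M.index = 2) :
    centralizer (M : Set G) = ⊥ := by
  by_contra hne
  haveI : Fact (Nat.Prime 2) := ⟨Nat.prime_two⟩
  refine not_isSolvable_of_normal hns hmax hcore hHs hne ?_
  set C := centralizer (M : Set G) with hC
  have hK : Group.IsSolvable (M.subgroupOf C) := Group.isSolvable_of_comm fun a b =>
    Subtype.ext (Subtype.ext
      (mem_centralizer_iff.1 (SetLike.coe_mem (b : C)) _ (mem_subgroupOf.1 a.2)))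
  haveI := hK
  haveI : IsCyclic (G ⧸ M) := isCyclic_of_prime_card hi
  haveI : Group.IsSolvable (G ⧸ M) :=
    Group.isSolvable_of_comm fun a b => (IsMulCommutative.is_comm (M := G ⧸ M)).comm a b
  haveI : Group.IsSolvable (C ⧸ M.subgroupOf C) := by
    let f : C →* G ⧸ M := (QuotientGroup.mk' M).comp C.subtype
    have hf : f.ker = M.subgroupOf C := by
      ext x
      rw [MonoidHom.mem_ker, mem_subgroupOf]
      exact QuotientGroup.eq_one_iff _
    exact Group.isSolvable_of_isSolvable_injective
      (f := ((QuotientGroup.kerLift f).comp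
        (QuotientGroup.quotientMulEquivOfEq hf.symm).toMonoidHom))
      ((QuotientGroup.kerLift_injective f).comp (MulEquiv.injective _))
  exact (Group.isSolvable_iff_subgroup_quotient (M.subgroupOf C)).2 ⟨inferInstance, inferInstance⟩

/-- A group with an index two subgroup isomorphic to `A₅` or `L₂(7)`. -/
theorem of_index_two {M : Subgroup G} [M.Normal] (hi : M.index = 2)
    (hM : Nonempty (M ≃* alternatingGroup (Fin 5)) ∨
      Nonempty (M ≃* Matrix.ProjectiveSpecialLinearGroup (Fin 2) (ZMod 7))) :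
    Nonempty (G ≃* Equiv.Perm (Fin 5)) ∨
      Nonempty (G ≃* GL (Fin 2) (ZMod 7) ⧸ Subgroup.center (GL (Fin 2) (ZMod 7))) := by
  have hC := centralizer_eq_bot hns hmax hcore hHs hi
  have hinj : Function.Injective (MulAut.conjNormal : G →* MulAut M) := by
    refine (injective_iff_map_eq_one _).2 fun g hg => ?_
    rw [← mem_bot, ← hC]
    refine mem_centralizer_iff.2 fun m hm => ?_
    have h := congrArg Subtype.val (DFunLike.congr_fun hg ⟨m, hm⟩)
    rw [MulAut.conjNormal_apply] at h
    exact (mul_inv_eq_iff_eq_mul.1 h).symm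
  have hcard := M.card_mul_index
  rw [hi] at hcard
  rcases hM with h | h
  · left
    obtain ⟨e⟩ := h
    let c : Equiv.Perm (Fin 5) ≃* MulAut (alternatingGroup (Fin 5)) :=
      MulEquiv.ofBijective MulAut.conjNormal
        ⟨Cfsg.Agent.S2119.conjNormal_injective (by norm_num), aut_alt_five⟩
    let φ : G →* Equiv.Perm (Fin 5) :=
      c.symm.toMonoidHom.comp ((MulAut.congr e).toMonoidHom.comp MulAut.conjNormal)
    refine ⟨MulEquiv.ofBijective φ ((Nat.bijective_iff_injective_and_card φ).2
      ⟨c.symm.injective.comp ((MulAut.congr e).injective.comp hinj), ?_⟩)⟩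
    rw [← hcard, Nat.card_congr e.toEquiv, mul_comm, two_mul_nat_card_alternatingGroup]
  · right
    obtain ⟨e⟩ := h
    have h27 : (2 : ZMod 7) ≠ 0 := by decide
    haveI : Fact (Nat.Prime 7) := ⟨by norm_num⟩
    obtain ⟨⟨c⟩, hc⟩ := aut_psl_two_prime 7 h27
    let φ : G →* GL (Fin 2) (ZMod 7) ⧸ Subgroup.center (GL (Fin 2) (ZMod 7)) :=
      c.toMonoidHom.comp ((MulAut.congr e).toMonoidHom.comp MulAut.conjNormal)
    refine ⟨MulEquiv.ofBijective φ ((Nat.bijective_iff_injective_and_card φ).2
      ⟨c.injective.comp ((MulAut.congr e).injective.comp hinj), ?_⟩)⟩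
    have h2 := CfsgLib.ClassicalLinear.card_PSL_two_of_odd (F := ZMod 7) (ZMod.card 7) (by decide)
    rw [← Nat.card_congr c.toEquiv, hc, ← hcard, Nat.card_congr e.toEquiv]
    norm_num at h2 ⊢
    omega

/-- The index two subgroup contains a self-centralizing subgroup of order three. -/
theorem index_two_cases {M : Subgroup G} [M.Normal] (hi : M.index = 2) (X : Subgroup M)
    (hX : Nat.card X = 3) (hCX : centralizer (X : Set M) = X) :
    Nonempty (M ≃* alternatingGroup (Fin 5)) ∨
      Nonempty (M ≃* Matrix.ProjectiveSpecialLinearGroup (Fin 2) (ZMod 7)) := by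
  haveI : Fact (Nat.Prime 2) := ⟨Nat.prime_two⟩
  haveI : Fact (Nat.Prime 3) := ⟨Nat.prime_three⟩
  haveI : IsCyclic (G ⧸ M) := isCyclic_of_prime_card hi
  have hMns : ¬ Group.IsSolvable M := fun h => hns ((Group.isSolvable_iff_subgroup_quotient M).2
    ⟨h, Group.isSolvable_of_comm fun a b => (IsMulCommutative.is_comm (M := G ⧸ M)).comm a b⟩)
  rcases Cfsg.Agent.S3331.result X hX hCX with ⟨N, hN, hnil, -, hq⟩ | ⟨N, hN, hab, -, ⟨e⟩⟩ | h
  · exfalso
    refine hMns ((Group.isSolvable_iff_subgroup_quotient N).2 ⟨inferInstance, ?_⟩)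
    rcases hq with hq | ⟨⟨e⟩⟩
    · haveI : IsCyclic (M ⧸ N) := isCyclic_of_prime_card hq
      exact Group.isSolvable_of_comm fun a b => (IsMulCommutative.is_comm (M := M ⧸ N)).comm a b
    · haveI := isSolvable_perm_three
      exact Group.isSolvable_of_isSolvable_injective (f := e.toMonoidHom) e.injective
  · left
    haveI := hN
    haveI hNs : Group.IsSolvable N := Group.isSolvable_of_comm fun a b => hab.is_comm.comm a b
    haveI : IsSimpleGroup (alternatingGroup (Fin 5)) := alternatingGroup.isSimpleGroup (by simp)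
    -- `N` is normal in `G`
    have hstab : ∀ g : G, N.map (MulAut.conjNormal g : MulAut M).toMonoidHom ≤ N := by
      intro g
      set N' := N.map (MulAut.conjNormal g : MulAut M).toMonoidHom with hN'
      haveI : N'.Normal := hN.map _ (MulEquiv.surjective _)
      haveI : Group.IsSolvable N' := Group.isSolvable_of_surjective
        ((MulAut.conjNormal g : MulAut M).toMonoidHom.subgroupMap_surjective N)
      set φ : M →* alternatingGroup (Fin 5) := e.toMonoidHom.comp (QuotientGroup.mk' N) with hφ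
      have hφs : Function.Surjective φ := e.surjective.comp (QuotientGroup.mk'_surjective N)
      rcases (Subgroup.Normal.map (inferInstance : N'.Normal) φ hφs).eq_bot_or_eq_top with h | h
      · intro m hm
        have h1 : φ m ∈ (⊥ : Subgroup (alternatingGroup (Fin 5))) := h ▸ mem_map_of_mem φ hm
        rw [mem_bot, hφ, MonoidHom.comp_apply, MulEquiv.coe_toMonoidHom,
          MulEquiv.map_eq_one_iff] at h1
        exact (QuotientGroup.eq_one_iff m).1 h1
      · exfalso
        haveI : Group.IsSolvable (N'.map φ) :=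
          Group.isSolvable_of_surjective (φ.subgroupMap_surjective N')
        rw [h] at *
        exact CfsgLib.SL2.Dickson.not_isSolvable_alternating_five
          (Group.isSolvable_of_surjective (f := (Subgroup.topEquiv (G := alternatingGroup (Fin 5))).toMonoidHom)
            (MulEquiv.surjective _))
    have hbot : N.map M.subtype = ⊥ := by
      haveI : (N.map M.subtype).Normal := ⟨by
        rintro _ ⟨m, hm, rfl⟩ g
        exact ⟨_, hstab g (mem_map_of_mem _ hm), MulAut.conjNormal_apply g m⟩⟩
      by_contra hne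
      exact not_isSolvable_of_normal hns hmax hcore hHs hne
        (Group.isSolvable_of_surjective (M.subtype.subgroupMap_surjective N))
    rw [map_eq_bot_iff_of_injective _ M.subtype_injective] at hbot
    exact ⟨(QuotientGroup.quotientBot.symm.trans
      (QuotientGroup.quotientMulEquivOfEq hbot.symm)).trans e⟩
  · exact Or.inr h

/-- A group with Klein four Sylow 2-subgroups and an involution centralizer of order 12. -/
theorem klein_twelve (P : Sylow 2 G) (hP : IsKleinFour (P : Subgroup G)) (z : G)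
    (hz : orderOf z = 2) (hzC : centralizer ({z} : Set G) = H) (h12 : Nat.card H = 12)
    (hgen : ∀ N : Subgroup G, (∀ t : G, orderOf t = 2 → t ∈ N) → H ≤ N) :
    Nonempty (G ≃* Matrix.ProjectiveSpecialLinearGroup (Fin 2) (ZMod 11)) ∨
      Nonempty (G ≃* Matrix.ProjectiveSpecialLinearGroup (Fin 2) (ZMod 13)) := by
  classical
  haveI : Fact (Nat.Prime 2) := ⟨Nat.prime_two⟩
  haveI := hP
  have hP4 : Nat.card (P : Subgroup G) = 4 := IsKleinFour.card_four
  haveI : IsMulCommutative (P : Subgroup G) := IsMulCommutative.of_comm fun a b => by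
    have h : ∀ w : (P : Subgroup G), w⁻¹ = w := fun w =>
      inv_eq_of_mul_eq_one_right (IsKleinFour.mul_self w)
    calc a * b = (a * b)⁻¹ := (h _).symm
      _ = b * a := by rw [mul_inv_rev, h, h]
  -- one class of involutions
  have hone : ∀ a b : G, orderOf a = 2 → orderOf b = 2 → IsConj a b := by
    rcases Cfsg.Agent.S0202.result P hP with h | h
    · intro a b ha hb
      haveI := (Nat.card_eq_one_iff_unique.1 h).1
      exact ConjClasses.mk_eq_mk_iff_isConj.1 (congrArg Subtype.val (Subsingleton.elim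
        (⟨ConjClasses.mk a, a, ha, rfl⟩ : {C : ConjClasses G // ∃ t : G, orderOf t = 2 ∧
          ConjClasses.mk t = C}) ⟨ConjClasses.mk b, b, hb, rfl⟩))
    · exfalso
      obtain ⟨N, hN, hc⟩ := (Cfsg.Agent.S0203.result P hP).1 h
      refine hns ((Group.isSolvable_iff_subgroup_quotient N).2 ⟨?_, ?_⟩)
      · refine Cfsg.Agent.S0205.result ?_
        rw [Nat.odd_iff, ← Nat.two_dvd_ne_zero, ← hc.index_eq_card]
        exact P.not_dvd_index
      · haveI : Group.IsSolvable (P : Subgroup G) :=
          Group.isSolvable_of_comm fun a b => (IsMulCommutative.is_comm (M := (P : Subgroup G))).comm a b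
        exact Group.isSolvable_of_surjective (f := hc.symm.QuotientMulEquiv.symm.toMonoidHom)
          (MulEquiv.surjective _)
  haveI : Nontrivial G := by
    by_contra h
    haveI := not_nontrivial_iff_subsingleton.1 h
    exact hns inferInstance
  haveI hsimple : IsSimpleGroup G := ⟨fun N hN => or_iff_not_imp_left.2 fun hNb => by
    haveI := hN
    obtain ⟨c, hc⟩ := exists_prime_orderOf_dvd_card' (G := N) 2
      (two_dvd_card_of_not_solvable (not_isSolvable_of_normal hns hmax hcore hHs hNb))
    have hHN : H ≤ N := hgen N fun t ht => by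
      obtain ⟨g, hg⟩ := isConj_iff.1 (hone c t ((Subgroup.orderOf_coe c).trans hc) ht)
      exact hg ▸ hN.conj_mem _ c.2 g
    rw [← sup_eq_top_of_normal hmax hcore hNb, sup_eq_left.2 hHN]⟩
  haveI : Group.IsPerfect G := ⟨by
    rcases Subgroup.Normal.eq_bot_or_eq_top (H := commutator G) inferInstance with h | h
    · exfalso
      refine hns (Group.isSolvable_of_comm fun a b => ?_)
      have := commutator_mem_commutator (mem_top a) (mem_top b)
      rw [← _root_.commutator_def, h, mem_bot] at this
      exact commutatorElement_eq_one_iff_mul_comm.1 this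
    · exact h⟩
  have hG2 : 2 ∣ Nat.card G := hz ▸ orderOf_dvd_natCard z
  have hO : Cfsg.oddCore G = ⊥ := by
    rcases (inferInstance : (Cfsg.oddCore G).Normal).eq_bot_or_eq_top with h | h
    · exact h
    · exfalso
      have h2 := CfsgLib.Cores.odd_card_oddCore (G := G)
      rw [h, Subgroup.card_top, Nat.odd_iff] at h2
      omega
  let q : G ⧸ Cfsg.oddCore G ≃* G :=
    (QuotientGroup.quotientMulEquivOfEq hO).trans QuotientGroup.quotientBot
  rcases Cfsg.Agent.S0483.result P 2 le_rfl ⟨(IsKleinFour.nonempty_mulEquiv).some⟩ with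
    ⟨F, hF, hFt, hodd, -, ⟨e⟩⟩ | he
  · let e' := q.symm.trans e
    have h2 : (2 : F) ≠ 0 := Ring.two_ne_zero fun h => by
      have h1 := FiniteField.even_card_of_char_two (F := F) h
      have h3 := Nat.odd_iff.1 hodd
      omega
    have hc := CfsgLib.GW.Klein.card_centralizer_psl h2 (y := e' z) (by rw [MulEquiv.orderOf_eq, hz])
    have heq : Nat.card (centralizer ({e' z} : Set (Matrix.ProjectiveSpecialLinearGroup (Fin 2) F))) =
        12 := by
      rw [← h12, ← hzC]
      refine (Nat.card_congr (Equiv.subtypeEquiv e'.toEquiv fun g => ?_)).symm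
      rw [mem_centralizer_singleton_iff, mem_centralizer_singleton_iff]
      show g * z = z * g ↔ e' g * e' z = e' z * e' g
      rw [← map_mul, ← map_mul, e'.injective.eq_iff]
    rw [heq, Nat.card_eq_fintype_card] at hc
    rcases hc with hc | hc
    · exact Or.inr ⟨e'.trans (CfsgLib.ClassicalLinear.pslCongr
        (ZMod.ringEquivOfPrime F (p := 13) (by norm_num) (by omega)).symm)⟩
    · exact Or.inl ⟨e'.trans (CfsgLib.ClassicalLinear.pslCongr
        (ZMod.ringEquivOfPrime F (p := 11) (by norm_num) (by omega)).symm)⟩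
  · exfalso
    obtain ⟨e⟩ := he
    have h8 : 2 ^ 3 ∣ Nat.card G := by
      rw [Nat.card_congr (q.symm.trans e).toEquiv, CfsgLib.GW.Klein.card_psl_alt7]
      norm_num
    have := P.pow_dvd_card_of_pow_dvd_card h8
    rw [hP4] at this
    norm_num at this

end

/-- A cyclic subgroup of index two of a dihedral or semidihedral group. -/
theorem exists_cyclic_index_two {P : Type*} [Group P]
    (h : (∃ n : ℕ, Nonempty (P ≃* DihedralGroup n)) ∨ Cfsg.IsQuasiDihedral P) :
    ∃ C : Subgroup P, C.index = 2 ∧ IsCyclic C := by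
  rcases h with ⟨n, ⟨e⟩⟩ | h
  · have hidx : (zpowers (DihedralGroup.r 1 : DihedralGroup n)).index = 2 := by
      refine Subgroup.index_eq_two_iff.2 ⟨DihedralGroup.sr 0, fun b => ?_⟩
      have key : ∀ b : DihedralGroup n, b ∈ zpowers (DihedralGroup.r 1 : DihedralGroup n) ↔
          ∃ i, b = DihedralGroup.r i := fun b =>
        ⟨fun ⟨k, hk⟩ => ⟨k, by rw [← hk]; exact DihedralGroup.r_one_zpow k⟩, fun ⟨i, hi⟩ => by
          obtain ⟨k, rfl⟩ := ZMod.intCast_surjective i
          exact ⟨k, by rw [hi]; exact DihedralGroup.r_one_zpow k⟩⟩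
      rw [key, key]
      cases b with
      | r i => exact Or.inr ⟨⟨i, rfl⟩, by simp⟩
      | sr i => exact Or.inl ⟨⟨_, DihedralGroup.sr_mul_sr i 0⟩, by simp⟩
    refine ⟨(zpowers (DihedralGroup.r 1 : DihedralGroup n)).map e.symm.toMonoidHom,
      (Subgroup.index_map_equiv _ e.symm).trans hidx, ?_⟩
    rw [MonoidHom.map_zpowers]
    infer_instance
  · obtain ⟨k, x, y, gen⟩ := CfsgLib.TwoGroups.exists_sdGen h
    exact ⟨zpowers x, gen.index_zpowers, inferInstance⟩

/-- The case of point stabilizer `D₁₂`. -/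
theorem dihedral_twelve (hns : ¬ Group.IsSolvable G) (H : Subgroup G) (hmax : IsCoatom H)
    (hcore : H.normalCore = ⊥) (hH : Nonempty (H ≃* DihedralGroup 6)) :
    Nonempty (G ≃* Equiv.Perm (Fin 5)) ∨
      Nonempty (G ≃* GL (Fin 2) (ZMod 7) ⧸ Subgroup.center (GL (Fin 2) (ZMod 7))) ∨
      Nonempty (G ≃* Matrix.ProjectiveSpecialLinearGroup (Fin 2) (ZMod 11)) ∨
      Nonempty (G ≃* Matrix.ProjectiveSpecialLinearGroup (Fin 2) (ZMod 13)) := by
  classical
  haveI : Fact (Nat.Prime 2) := ⟨Nat.prime_two⟩
  obtain ⟨e⟩ := hH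
  obtain ⟨f1, f2, f3, f4, f5, f6, f7, f8⟩ := dihedral_six_facts
  let ι : DihedralGroup 6 →* G := H.subtype.comp e.symm.toMonoidHom
  have ιinj : Function.Injective ι := H.subtype_injective.comp e.symm.injective
  have ιH : ∀ d, ι d ∈ H := fun d => (e.symm d).2
  have ιsurj : ∀ x ∈ H, ∃ d, ι d = x := fun x hx => ⟨e ⟨x, hx⟩, by simp [ι]⟩
  have hH12 : Nat.card H = 12 := by
    rw [Nat.card_congr e.toEquiv, DihedralGroup.nat_card]
  have hHs : Group.IsSolvable H :=
    haveI : Group.IsSolvable (DihedralGroup 6) :=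
      isSolvable_dihedral_six
    Group.isSolvable_of_isSolvable_injective (f := e.toMonoidHom) e.injective
  set z := ι (DihedralGroup.r 3) with hzdef
  have hz1 : z ≠ 1 := fun h => f1 (ιinj (h.trans (map_one ι).symm))
  have hz : orderOf z = 2 :=
    orderOf_eq_prime (by rw [pow_two, hzdef, ← map_mul, f2, map_one]) hz1
  have hzC : centralizer ({z} : Set G) = H := by
    have hzH : H ≤ centralizer ({z} : Set G) := fun x hx => by
      obtain ⟨d, rfl⟩ := ιsurj x hx
      rw [mem_centralizer_singleton_iff, hzdef, ← map_mul, ← map_mul, f3]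
    refine le_antisymm ?_ hzH
    have hK : zpowers z ≠ ⊥ := fun h => hz1 (zpowers_eq_bot.1 h)
    have hcz : centralizer (zpowers z : Set G) = centralizer ({z} : Set G) := by
      rw [zpowers_eq_closure, centralizer_closure]
    rw [← hcz]
    refine (centralizer_le_normalizer _).trans (le_of_eq ?_)
    exact normalizer_eq_of_le hmax hcore (zpowers_le.2 (ιH _)) hK fun x hx =>
      centralizer_le_normalizer _ (by rw [hcz]; exact hzH hx)
  set s := ι (DihedralGroup.sr 0) with hsdef
  have hs : orderOf s = 2 := orderOf_eq_prime (by rw [pow_two, hsdef, ← map_mul, (f5 0).1, map_one])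
    fun h => (f5 0).2 (ιinj (h.trans (map_one ι).symm))
  have hzs : z * s = s * z := by rw [hzdef, hsdef, ← map_mul, ← map_mul, f3]
  -- a Sylow subgroup containing `z` and `s`
  let V : Subgroup (DihedralGroup 6) := centralizer {DihedralGroup.sr 0}
  have hV : ∀ y, y ∈ V ↔ y = 1 ∨ y = DihedralGroup.r 3 ∨ y = DihedralGroup.sr 0 ∨
      y = DihedralGroup.sr 3 := fun y => by
    rw [mem_centralizer_singleton_iff]
    refine ⟨fun h => f4 y h.symm, ?_⟩
    rintro (rfl | rfl | rfl | rfl) <;> decide
  have hV4 : Nat.card V = 4 := by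
    rw [Nat.card_congr (Equiv.subtypeEquivRight hV), Nat.card_eq_fintype_card]
    decide
  obtain ⟨P, hP⟩ := (IsPGroup.of_card (n := 2)
    (by rw [card_map_of_injective ιinj, hV4]; norm_num) : IsPGroup 2 (V.map ι)).exists_le_sylow
  have hzP : z ∈ (P : Subgroup G) := hP (mem_map_of_mem ι ((hV _).2 (Or.inr (Or.inl rfl))))
  have hsP : s ∈ (P : Subgroup G) :=
    hP (mem_map_of_mem ι ((hV _).2 (Or.inr (Or.inr (Or.inl rfl)))))
  set zP : (P : Subgroup G) := ⟨z, hzP⟩ with hzPdef
  have hCP : Nat.card (centralizer ({zP} : Set (P : Subgroup G))) = 4 := by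
    have h1 : ((centralizer ({zP} : Set (P : Subgroup G))).map (P : Subgroup G).subtype) =
        (P : Subgroup G) ⊓ H := by
      ext x
      simp only [mem_map, mem_centralizer_singleton_iff, Subgroup.mem_inf, ← hzC]
      constructor
      · rintro ⟨y, hy, rfl⟩
        exact ⟨y.2, congrArg Subtype.val hy⟩
      · rintro ⟨hx, hxz⟩
        exact ⟨⟨x, hx⟩, Subtype.ext hxz, rfl⟩
    rw [← card_map_of_injective (P : Subgroup G).subtype_injective, h1]
    refine le_antisymm ?_ ?_
    · have hd : Nat.card ↥((P : Subgroup G) ⊓ H) ∣ 12 := hH12 ▸ card_dvd_of_le inf_le_right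
      obtain ⟨j, hj⟩ := (IsPGroup.iff_card.1 (P.isPGroup'.to_le inf_le_left) :
        ∃ n, Nat.card ↥((P : Subgroup G) ⊓ H) = 2 ^ n)
      rw [hj] at hd ⊢
      rcases Nat.lt_or_ge j 3 with h | h
      · exact le_trans (Nat.pow_le_pow_right two_pos (by omega : j ≤ 2)) le_rfl
      · exfalso
        have : 2 ^ 3 ∣ 12 := (pow_dvd_pow 2 h).trans hd
        norm_num at this
    · calc 4 = Nat.card (V.map ι) := by rw [card_map_of_injective ιinj, hV4]
        _ ≤ _ := Subgroup.card_le_of_le (le_inf hP (by rintro _ ⟨d, -, rfl⟩; exact ιH d))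
  have hzPo : orderOf zP = 2 := by rw [hzPdef, Subgroup.orderOf_mk, hz]
  have hgen : ∀ N : Subgroup G, (∀ t : G, orderOf t = 2 → t ∈ N) → H ≤ N := by
    intro N hN x hx
    have hsr : ∀ i, ι (DihedralGroup.sr i) ∈ N := fun i => hN _ (orderOf_eq_prime
      (by rw [pow_two, ← map_mul, (f5 i).1, map_one])
      fun h => (f5 i).2 (ιinj (h.trans (map_one ι).symm)))
    obtain ⟨d, rfl⟩ := ιsurj x hx
    cases d with
    | r i => rw [f6 i, map_mul]; exact mul_mem (hsr 0) (hsr i)
    | sr i => exact hsr i
  by_cases hP4 : Nat.card (P : Subgroup G) = 4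
  · have hPK : IsKleinFour (P : Subgroup G) := isKleinFour_of_card _ hP4 fun v hv => by
      have hVP : V.map ι = (P : Subgroup G) :=
        Subgroup.eq_of_le_of_card_ge hP (by rw [hP4, card_map_of_injective ιinj, hV4])
      obtain ⟨d, hd, rfl⟩ := hVP.symm ▸ hv
      rw [← map_mul]
      rcases (hV d).1 hd with rfl | rfl | rfl | rfl
      · simp
      · rw [f2, map_one]
      · rw [(f5 0).1, map_one]
      · rw [(f5 3).1, map_one]
    rcases klein_twelve hns hmax hcore hHs P hPK z hz hzC hH12 hgen with h | h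
    · exact Or.inr (Or.inr (Or.inl h))
    · exact Or.inr (Or.inr (Or.inr h))
  -- the Sylow subgroup is dihedral or semidihedral of order at least eight
  obtain ⟨n, hn⟩ := (IsPGroup.iff_card.1 P.isPGroup' :
    ∃ n, Nat.card (P : Subgroup G) = 2 ^ n)
  have h4P : 4 ∣ Nat.card (P : Subgroup G) := hCP ▸ card_subgroup_dvd_card _
  have hn3 : 3 ≤ n := by
    by_contra hlt
    have h1 := Nat.le_of_dvd Nat.card_pos h4P
    have h2 : 2 ^ n ≤ 2 ^ 2 := Nat.pow_le_pow_right two_pos (by omega)
    rw [← hn] at h2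
    omega
  have htype : (∃ n : ℕ, Nonempty ((P : Subgroup G) ≃* DihedralGroup n)) ∨
      Cfsg.IsQuasiDihedral (P : Subgroup G) := by
    rcases Cfsg.Agent.S3224.result P.isPGroup' zP hzPo hCP with h | h | h
    · exact Or.inl h
    · exact Or.inr h
    · exact absurd h hP4
  obtain ⟨C, hCi, hCc⟩ := exists_cyclic_index_two htype
  haveI := hCc
  haveI : C.Normal := Subgroup.normal_of_index_eq_two hCi
  obtain ⟨M, hMn, hMi, hzM⟩ := CfsgLib.InvChar.exists_index_two_not_mem P
    (C.map (P : Subgroup G).subtype) (by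
      rw [Subgroup.relIndex, subgroupOf, comap_map_eq_self_of_injective (P : Subgroup G).subtype_injective]
      exact hCi) 1 le_rfl (fun y _ hy => by
        have hne : orderOf y ≠ 1 := fun h => hy (by rw [orderOf_eq_one_iff.1 h]; exact one_mem _)
        have := orderOf_pos y
        norm_num
        omega) z hzP (by rw [hz]; norm_num) (by
      intro g hg
      obtain ⟨c, hc, hcz⟩ := hg
      have hco : orderOf c = 2 := by
        rw [← Subgroup.orderOf_coe]
        show orderOf ((P : Subgroup G).subtype c) = 2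
        rw [hcz, CfsgLib.Involutions.orderOf_conj, hz]
      have hcen : ∀ p : (P : Subgroup G), p * c * p⁻¹ = c := by
        intro p
        have hm : p * c * p⁻¹ ∈ C := (inferInstance : C.Normal).conj_mem c hc p
        have ho1 : orderOf (⟨c, hc⟩ : C) = 2 := by rw [Subgroup.orderOf_mk, hco]
        have ho2 : orderOf (⟨_, hm⟩ : C) = 2 := by
          rw [Subgroup.orderOf_mk, CfsgLib.Involutions.orderOf_conj, hco]
        exact congrArg Subtype.val (CfsgLib.CoreFree.involution_unique_of_cyclic ho2 ho1)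
      have hPle : Nat.card (P : Subgroup G) ≤ Nat.card H := by
        refine Nat.card_le_card_of_injective (fun p => (⟨g⁻¹ * (p : G) * g, ?_⟩ : H))
          fun a b h => Subtype.ext (by simpa using congrArg Subtype.val h)
        rw [← hzC, mem_centralizer_singleton_iff]
        have h1 : (p : G) * (g * z * g⁻¹) = g * z * g⁻¹ * p := by
          rw [← hcz]
          exact congrArg Subtype.val (mul_inv_eq_iff_eq_mul.1 (hcen p))
        calc g⁻¹ * (p : G) * g * z = g⁻¹ * ((p : G) * (g * z * g⁻¹)) * g := by group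
          _ = z * (g⁻¹ * (p : G) * g) := by rw [h1]; group
      have hdvd : 2 ^ n ≤ 12 := by rw [← hn, ← hH12]; exact hPle
      have hn' : n = 3 := by
        by_contra hne
        have : 2 ^ 4 ≤ 2 ^ n := Nat.pow_le_pow_right two_pos (by omega)
        omega
      -- `P` is then conjugate into `H`
      have hd : Nat.card (P : Subgroup G) ∣ Nat.card H := by
        have e1 : (P : Subgroup G).map (MulAut.conj g⁻¹).toMonoidHom ≤ H := by
          rintro _ ⟨p, hp, rfl⟩
          rw [← hzC, mem_centralizer_singleton_iff]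
          have h1 : p * (g * z * g⁻¹) = g * z * g⁻¹ * p := by
            rw [← hcz]
            exact congrArg Subtype.val (mul_inv_eq_iff_eq_mul.1 (hcen ⟨p, hp⟩))
          show g⁻¹ * p * g⁻¹⁻¹ * z = z * (g⁻¹ * p * g⁻¹⁻¹)
          calc g⁻¹ * p * g⁻¹⁻¹ * z = g⁻¹ * (p * (g * z * g⁻¹)) * g := by group
            _ = z * (g⁻¹ * p * g⁻¹⁻¹) := by rw [h1]; group
        have := card_dvd_of_le e1
        rwa [card_map_of_injective (MulAut.conj g⁻¹).injective] at this
      rw [hn, hH12, hn'] at hd
      norm_num at hd)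
  haveI := hMn
  -- the subgroup of order three
  set x := ι (DihedralGroup.r 2) with hxdef
  have hx3 : x * x * x = 1 := by rw [hxdef, ← map_mul, ← map_mul]; exact map_one ι ▸ rfl
  have hx1 : x ≠ 1 := fun h => by
    have := ιinj (h.trans (map_one ι).symm)
    exact absurd this (by decide)
  have hxM : x ∈ M := by
    have h2 : x * x ∈ M := (mul_mem_iff_of_index_two hMi).2 Iff.rfl
    have h : x = (x * x) * (x * x) := by
      rw [show x * x * (x * x) = x * x * x * x by group, hx3, one_mul]
    rw [h]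
    exact mul_mem h2 h2
  haveI : Fact (Nat.Prime 3) := ⟨Nat.prime_three⟩
  have hxo : orderOf (⟨x, hxM⟩ : M) = 3 := by
    rw [Subgroup.orderOf_mk]
    exact orderOf_eq_prime (by rw [pow_succ, pow_two, hx3]) hx1
  have hCX : centralizer (zpowers (⟨x, hxM⟩ : M) : Set M) = zpowers (⟨x, hxM⟩ : M) := by
    refine le_antisymm (fun m hm => ?_) (zpowers_le.2 (mem_centralizer_iff.2 fun w hw => ?_))
    · have hcomm : (m : G) * x = x * m :=
        congrArg Subtype.val (mem_centralizer_iff.1 hm _ (mem_zpowers _)).symm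
      have hmH : (m : G) ∈ H := by
        have hxH : H ≤ normalizer (zpowers x : Set G) := fun y hy => by
          obtain ⟨d, rfl⟩ := ιsurj y hy
          refine mem_normalizer_of_forall ?_
          rintro _ ⟨k, rfl⟩
          show ι d * x ^ k * (ι d)⁻¹ ∈ zpowers x
          rw [← conj_zpow, hxdef, ← map_inv, ← map_mul, ← map_mul]
          rcases f7 d with h | h <;> rw [h]
          · exact zpow_mem (mem_zpowers _) k
          · rw [show (DihedralGroup.r 4 : DihedralGroup 6) = (DihedralGroup.r 2)⁻¹ by decide, map_inv]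
            exact zpow_mem (inv_mem (mem_zpowers _)) k
        rw [← normalizer_eq_of_le hmax hcore (zpowers_le.2 (ιH _)) (fun h => hx1 (zpowers_eq_bot.1 h))
          hxH]
        refine centralizer_le_normalizer _ (mem_centralizer_iff.2 ?_)
        rintro _ ⟨k, rfl⟩
        exact (Commute.zpow_right hcomm k).eq.symm
      obtain ⟨d, hd⟩ := ιsurj _ hmH
      rcases f8 d (ιinj (by rw [map_mul, map_mul, hd]; exact hcomm)) with ⟨i, hi⟩ | ⟨i, hi⟩
      · refine ⟨((i : ℕ) : ℤ), Subtype.ext ?_⟩
        show ((⟨x, hxM⟩ : M) ^ ((i : ℕ) : ℤ) : M).1 = (m : G)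
        rw [zpow_natCast, SubmonoidClass.coe_pow, ← hd, hi, map_pow]
      · exfalso
        refine hzM ?_
        have : (m : G) = z * x ^ (i : ℕ) := by rw [← hd, hi, map_mul, map_pow]
        rw [show z = (m : G) * (x ^ (i : ℕ))⁻¹ by rw [this, mul_inv_cancel_right]]
        exact mul_mem m.2 (inv_mem (pow_mem hxM _))
    · obtain ⟨k, rfl⟩ := hw
      exact ((Commute.refl (⟨x, hxM⟩ : M)).zpow_left k).eq
  rcases of_index_two hns hmax hcore hHs hMi (index_two_cases hns hmax hcore hHs hMi _
    (by rw [Nat.card_zpowers, hxo]) hCX) with h | h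
  · exact Or.inl h
  · exact Or.inr (Or.inl h)

end CfsgLib.SubdegreeThree
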